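import Mathlib.AlgebraicGeometry.Morphisms.FlatDescent
import Mathlib.AlgebraicGeometry.FunctionField
import Mathlib.RingTheory.Flat.TorsionFree

/-!
# Descent of factorisations; flatness over normal curves

* `exists_lift_of_flat`: a morphism factors through a monomorphism if it does so after a faithfully flat base change;
* `flat_of_isDominant`: a dominant morphism from an integral scheme to an integral scheme whose local rings are
  valuation rings is flat.
-/

set_option autoImplicit false
universe u

open CategoryTheory CategoryTheory.Limits AlgebraicGeometry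

namespace K204.FlatLift

theorem exists_lift_of_flat {P G Y Y' : Scheme.{u}} (i : P ⟶ G) [Mono i] (g : Y ⟶ G) (π : Y' ⟶ Y) [Flat π]
    [Surjective π] [QuasiCompact π] (h : ∃ p : Y' ⟶ P, p ≫ i = π ≫ g) : ∃ p : Y ⟶ P, p ≫ i = g := by
  obtain ⟨p, hp⟩ := h
  let s : Y' ⟶ pullback i g := pullback.lift p π hp
  have hs : s ≫ pullback.snd i g = π := pullback.lift_snd _ _ _
  let t : Y' ⟶ pullback (pullback.snd i g) π := pullback.lift s (𝟙 Y') (by rw [hs, Category.id_comp])
  have ht : t ≫ pullback.snd (pullback.snd i g) π = 𝟙 _ := pullback.lift_snd _ _ _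
  have h1 : IsIso (pullback.snd (pullback.snd i g) π) := by
    have : IsSplitEpi (pullback.snd (pullback.snd i g) π) := ⟨⟨⟨t, ht⟩⟩⟩
    exact isIso_of_mono_of_isSplitEpi _
  have h2 : IsIso (pullback.snd i g) := by
    have h3 : (MorphismProperty.isomorphisms Scheme.{u}) (pullback.snd i g) :=
      MorphismProperty.of_pullback_snd_of_descendsAlong
        (Q := @Surjective ⊓ @Flat ⊓ @QuasiCompact) (f := pullback.snd i g) (g := π)
        ⟨⟨inferInstance, inferInstance⟩, inferInstance⟩ h1
    exact h3
  refine ⟨inv (pullback.snd i g) ≫ pullback.fst i g, ?_⟩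
  rw [Category.assoc, pullback.condition, IsIso.inv_hom_id_assoc]

/-- A dominant morphism of integral schemes is injective on local rings. -/
theorem stalkMap_injective {X Y : Scheme.{u}} [IsIntegral X] [IsIntegral Y] (f : X ⟶ Y)
    [IsDominant f] (x : X) : Function.Injective (f.stalkMap x) := by
  rw [injective_iff_map_eq_zero]
  intro a ha
  obtain ⟨U, hxU, s, rfl⟩ := Y.presheaf.exists_germ_eq a
  have h1 : X.presheaf.germ (f ⁻¹ᵁ U) x hxU (f.app U s) = 0 := by
    rw [← ha]
    exact (ConcreteCategory.congr_hom (f.germ_stalkMap U x hxU) s).symm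
  have h2 : f.app U s = 0 := germ_injective_of_isIntegral X x hxU (by rw [h1, map_zero])
  have h3 : Y.basicOpen s = ⊥ := by
    have h4 : f ⁻¹ᵁ Y.basicOpen s = ⊥ := by
      rw [Scheme.preimage_basicOpen, h2, Scheme.basicOpen_zero]
    by_contra hne
    obtain ⟨y, hy⟩ : ((Y.basicOpen s : Y.Opens) : Set Y).Nonempty := by
      rw [Set.nonempty_iff_ne_empty]
      intro he
      exact hne (TopologicalSpace.Opens.ext he)
    obtain ⟨z, hz2⟩ := f.denseRange.exists_mem_open (Y.basicOpen s).2 ⟨y, hy⟩
    have h5 : z ∈ f ⁻¹ᵁ Y.basicOpen s := hz2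
    rw [h4] at h5
    exact h5
  rw [basicOpen_eq_bot_iff] at h3
  rw [h3, map_zero]

theorem flat_of_isDominant {X Y : Scheme.{u}} [IsIntegral X] [IsIntegral Y]
    (hY : ∀ y : Y, ValuationRing (Y.presheaf.stalk y)) (f : X ⟶ Y) [IsDominant f] : Flat f := by
  rw [Flat.iff_flat_stalkMap]
  intro x
  have hinj := stalkMap_injective f x
  have := hY (f x)
  let _ : Algebra (Y.presheaf.stalk (f x)) (X.presheaf.stalk x) := (f.stalkMap x).hom.toAlgebra
  have h1 : Module.IsTorsionFree (Y.presheaf.stalk (f x)) (X.presheaf.stalk x) := by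
    have : FaithfulSMul (Y.presheaf.stalk (f x)) (X.presheaf.stalk x) :=
      (faithfulSMul_iff_algebraMap_injective _ _).mpr hinj
    infer_instance
  change Module.Flat (Y.presheaf.stalk (f x)) (X.presheaf.stalk x)
  rw [Module.Flat.flat_iff_torsion_eq_bot_of_isBezout, ← Submodule.isTorsionFree_iff_torsion_eq_bot]
  exact h1

end K204.FlatLift
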