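import Groth.Agent.CanPar.K204.GalNorm
import Groth.Agent.CanPar.K795.ExtSection
import Groth.Agent.Sga3.H780.SepPt
import Groth.Agent.Sga3C.DimTop

/-!
# A finite separable morphism of curves is dominated by a Galois covering

* `exists_galCover_over`: for `p : Y ⟶ X` finite and étale over a nonempty open subset of `Y` there is a Galois covering
  `V ⟶ X` factoring through `p`.
-/

set_option autoImplicit false
universe u

open CategoryTheory CategoryTheory.Limits AlgebraicGeometry TopologicalSpace

namespace K204.Sep

open K204.GalNorm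

variable {X Y : Scheme.{u}} (p : Y ⟶ X)

theorem isDominant_of_etale [IrreducibleSpace X] (U : Y.Opens) (hU : (U : Set Y).Nonempty) (h : Etale (U.ι ≫ p)) :
    IsDominant p := by
  constructor
  have h1 : IsOpen (Set.range (U.ι ≫ p)) := (U.ι ≫ p).isOpenMap.isOpen_range
  have h2 : (Set.range (U.ι ≫ p)).Nonempty := by
    obtain ⟨y, hy⟩ := hU
    exact ⟨_, ⟨⟨y, hy⟩, rfl⟩⟩
  refine (h1.dense h2).mono ?_
  rintro _ ⟨y, rfl⟩
  exact ⟨U.ι y, rfl⟩

theorem map_genericPoint [IrreducibleSpace X] [IrreducibleSpace Y] [IsDominant p] :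
    p (genericPoint Y) = genericPoint X := by
  have h1 : IsGenericPoint (p (genericPoint Y)) (⊤ : Set X) := by
    have h2 := (genericPoint_spec Y).image p.continuous
    rw [Set.image_univ, p.denseRange.closure_eq] at h2
    exact h2
  exact h1.eq (genericPoint_spec X)

/-- a point of `Y` with values in a Galois extension of the function field of `X` -/
theorem exists_point [IsIntegral X] [IsIntegral Y] (U : Y.Opens) (hU : (U : Set Y).Nonempty)
    (h : Etale (U.ι ≫ p)) :
    ∃ (L : Type u) (_ : Field L) (_ : Algebra X.functionField L) (_ : FiniteDimensional X.functionField L)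
      (_ : IsGalois X.functionField L) (P : Spec (CommRingCat.of L) ⟶ Y),
      P ≫ p = Spec.map (CommRingCat.ofHom (algebraMap X.functionField L)) ≫ X.fromSpecStalk (genericPoint X) := by
  have hd := isDominant_of_etale p U hU h
  let f : pullback (U.ι ≫ p) (X.fromSpecStalk (genericPoint X)) ⟶ Spec (CommRingCat.of X.functionField) :=
    pullback.snd (U.ι ≫ p) (X.fromSpecStalk (genericPoint X))
  have hf : Smooth f := by
    have h1 : Smooth (U.ι ≫ p) := inferInstance
    exact MorphismProperty.pullback_snd _ _ h1
  have hne : Nonempty ↥(pullback (U.ι ≫ p) (X.fromSpecStalk (genericPoint X))) := by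
    have hη : genericPoint Y ∈ U := ((genericPoint_spec Y).mem_open_set_iff U.isOpen).mpr (by simpa using hU)
    obtain ⟨z, -, -⟩ := Scheme.Pullback.exists_preimage_pullback (f := U.ι ≫ p)
      (g := X.fromSpecStalk (genericPoint X)) (⟨genericPoint Y, hη⟩ : U)
      (IsLocalRing.closedPoint (X.presheaf.stalk (genericPoint X))) (by
        rw [Scheme.fromSpecStalk_closedPoint, Scheme.Hom.comp_apply]
        exact map_genericPoint p)
    exact ⟨z⟩
  obtain ⟨L, _, _, P, h1, h2, hP⟩ := Groth.Agent.Sga3.H780.SepPt.exists_point X.functionField f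
  refine ⟨L, inferInstance, inferInstance, h1, h2, P ≫ pullback.fst _ _ ≫ U.ι, ?_⟩
  rw [Category.assoc, Category.assoc, pullback.condition]
  exact (Category.assoc _ _ _).symm.trans (congrArg (· ≫ X.fromSpecStalk (genericPoint X)) hP)

/-- A finite separable morphism of curves is dominated by a Galois covering. -/
theorem exists_galCover_over (k : Type u) [Field k] [X.Over (Spec (CommRingCat.of k))] [IsIntegral X]
    [IsProper (X ↘ Spec (CommRingCat.of k))] (hdim : topologicalKrullDim X = 1)
    (hX : ∀ x : X, ValuationRing (X.presheaf.stalk x)) [IsIntegral Y]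
    (hY : ∀ y : Y, ValuationRing (Y.presheaf.stalk y)) [IsFinite p]
    (hsep : ∃ U : Y.Opens, (U : Set Y).Nonempty ∧ Etale (U.ι ≫ p)) :
    ∃ (L : Type u) (_ : Field L) (_ : Algebra X.functionField L) (_ : FiniteDimensional X.functionField L)
      (_ : IsGalois X.functionField L) (V : GalCover k X L) (r : V.C ⟶ Y),
      IsFinite r ∧ Surjective r ∧ Flat r ∧ r ≫ p = V.q := by
  obtain ⟨U, hU, het⟩ := hsep
  have hd := isDominant_of_etale p U hU het
  obtain ⟨L, _, _, hL1, hL2, P, hP⟩ := exists_point p U hU het
  obtain ⟨V⟩ := nonempty_galCover k X hdim hX L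
  have hsepC : V.C.IsSeparated := by
    rw [Scheme.isSeparated_iff, ← terminal.comp_from (V.C ↘ Spec (CommRingCat.of k))]
    infer_instance
  have hw : (V.e.hom ≫ P) ≫ p = V.C.fromSpecStalk (genericPoint V.C) ≫ V.q := by
    rw [Category.assoc, hP, ← V.w_q, ← V.e_w, Category.assoc]
  obtain ⟨s, h1, h2⟩ := K795.ExtSection.exists_section V.val (pullback.snd p V.q)
    (pullback.lift (V.e.hom ≫ P) (V.C.fromSpecStalk (genericPoint V.C)) hw) (pullback.lift_snd _ _ _)
  let r : V.C ⟶ Y := s ≫ pullback.fst p V.q
  have hr : r ≫ p = V.q := by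
    rw [Category.assoc, pullback.condition, reassoc_of% h1]
  have hfin : IsFinite r := by
    have : IsFinite (r ≫ p) := by rw [hr]; infer_instance
    exact MorphismProperty.of_postcomp (W := @IsFinite) (W' := @IsSeparated) r p inferInstance this
  have hgen : r (genericPoint V.C) = genericPoint Y := by
    have e1 : p (r (genericPoint V.C)) = p (genericPoint Y) := by
      rw [← Scheme.Hom.comp_apply, hr, map_genericPoint V.q, map_genericPoint p]
    exact (Groth.Agent.Sga3C.DimTop.eq_of_specializes_of_isIntegralHom p _ _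
      (genericPoint_specializes _) e1.symm).symm
  have hdr : IsDominant r := by
    constructor
    rw [DenseRange, dense_iff_closure_eq]
    refine Set.eq_univ_of_univ_subset ?_
    have h1 : closure {genericPoint Y} = Set.univ := genericPoint_closure Y
    rw [← h1]
    apply closure_mono
    rintro _ rfl
    exact ⟨_, hgen⟩
  have hsr : Surjective r := surjective_of_isDominant_of_isClosed_range r r.isClosedMap.isClosed_range
  exact ⟨L, inferInstance, inferInstance, hL1, hL2, V, r, hfin, hsr, FlatLift.flat_of_isDominant hY r, hr⟩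

end K204.Sep
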