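import Groth.Agent.CanPar.K204.Desc
import Groth.Agent.CanPar.K204.Sep
import Groth.Agent.Picfga.CurvePts

/-!
# The largest parabolic subgroup of maximal degree on a curve, its behaviour under finite separable coverings

Conditional on `CoreSplit` (`hC`), `CoreSplitZero` (`hC0`):
* `exists_largest`: existence (smooth curves);
* `deg_zero`: reductive groups have degree zero;
* `exists_largest_over`: a parabolic subgroup which is the largest of maximal degree over `X` and over `Y`.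
-/

set_option autoImplicit false
set_option maxHeartbeats 400000
universe u

open CategoryTheory CategoryTheory.Limits AlgebraicGeometry MonoidalCategory CartesianMonoidalCategory
  MonObj GrpObj

namespace K204.Fin

open Groth.Agent Groth.Agent.Sga3B Groth.Agent.Sga3B.MT Groth.Agent.RedSub.H647.SubPt
  Groth.Agent.RedSub.H647.SubF.SubClass Groth.Agent.RedSub.H660.Classes K795.ParExt K204.ParSec K204.ParSec.ParData
  Groth.Agent.RedSub.H660.Restrict K204.Tor K204.GalNorm K204.Desc Groth.Agent.CanPar.K795.Iface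

variable {X : Scheme.{u}} {G : Over X} [GrpObj G] {D : ParData G}

/-- A parabolic subgroup of `G` as a parabolic subgroup of `G_T`, `T ⟶ X` the identity. -/
theorem exists_bcId {P : Over X} [GrpObj P] (j : P ⟶ G) (hj : Red.IsParabolic j) :
    ∃ j' : P ⟶ Red.bc (𝟙 X) G, Red.IsParabolic j' ∧
      ∀ (Z : Scheme.{u}) (y : Z ⟶ X) (g : Z ⟶ G.left), Pt j' y g ↔ PtG j g ∧ y = g ≫ G.hom := by
  let ψ := BcIso.bcIdIso G
  have hψ : ψ.hom.hom.hom.left = pullback.fst G.hom (𝟙 X) := by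
    rw [← pullbackId_hom_left]
    exact congrArg (fun z => z.left) (BcNat.und_bcIdIso G)
  have hinv : ψ.inv.hom.hom ≫ ψ.hom.hom.hom = 𝟙 G := by
    have := ψ.inv_hom_id
    exact congrArg (fun z => z.hom.hom) this
  have h1 : (j ≫ ψ.inv.hom.hom).left ≫ pullback.fst G.hom (𝟙 X) = j.left := by
    rw [← hψ, ← Over.comp_left, Category.assoc, hinv, Category.comp_id]
  refine ⟨j ≫ ψ.inv.hom.hom, ?_, ?_⟩
  · exact good_isParabolic.of_arrow (Iso.refl _) ψ.symm (Category.id_comp _).symm hj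
  · intro Z y g
    constructor
    · rintro ⟨p, rfl, hp⟩
      rw [h1] at hp
      refine ⟨⟨p, hp⟩, ?_⟩
      rw [← hp, Category.assoc, Over.w]
    · rintro ⟨⟨p, hp⟩, rfl⟩
      refine ⟨p, ?_, ?_⟩
      · rw [← hp, Category.assoc, Over.w]
      · rw [h1, hp]

/-- the classifying morphism of a parabolic subgroup of `G` -/
theorem exists_sec (D : ParData G) {P : Over X} [GrpObj P] (j : P ⟶ G) (hj : Red.IsParabolic j) :
    ∃ ψ : X ⟶ D.M.left, ψ ≫ D.M.hom = 𝟙 X ∧
      (∀ (Z : Scheme.{u}) (g : Z ⟶ G.left), PtG j g ↔ Pt D.h (g ≫ G.hom ≫ ψ) g) ∧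
      ∀ (k : Type u) [Field k] [X.Over (Spec (CommRingCat.of k))] [IsIntegral X] (n : ℕ),
        FlatMod.IsFinLocFreeOfRank n (LieS.omega P) → Curv2.deg k X (LieS.omega P) n = D.dg k ψ := by
  obtain ⟨j', hj', h⟩ := exists_bcId j hj
  obtain ⟨ψ, ⟨hψ1, hψ2⟩, -⟩ := existsUnique_hom_of_par D.rep (𝟙 X) j' hj'
  refine ⟨ψ, hψ1, fun Z g => ?_, fun k _ _ _ n hn => deg_eq k hj' hψ1 hψ2 hn⟩
  have h1 := h Z (g ≫ G.hom) g
  rw [hψ2, Category.assoc] at h1
  simpa using h1.symm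

/-- the parabolic subgroup of `G` classified by a section -/
theorem exists_par_of_sec (D : ParData G) (s : X ⟶ D.M.left) (hs : s ≫ D.M.hom = 𝟙 X) :
    ∃ (P : Over X) (_ : GrpObj P) (i : P ⟶ G), Red.IsParabolic i ∧
      (∀ (Z : Scheme.{u}) (g : Z ⟶ G.left), PtG i g ↔ Pt D.h (g ≫ G.hom ≫ s) g) ∧
      ∀ (k : Type u) [Field k] [X.Over (Spec (CommRingCat.of k))] [IsIntegral X],
        ∃ n : ℕ, FlatMod.IsFinLocFreeOfRank n (LieS.omega P) ∧ Curv2.deg k X (LieS.omega P) n = D.dg k s := by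
  obtain ⟨P, _, i, hi1, hi2⟩ := exists_par_of_hom D.red D.par (𝟙 X) s hs
  obtain ⟨i', hi', hi'2⟩ := exists_par_of_id rfl i hi1
  refine ⟨P, inferInstance, i', hi', fun Z g => ?_, fun k _ _ _ => ?_⟩
  · rw [hi'2, hi2, Category.assoc]
  · obtain ⟨n, hn⟩ := exists_omega_rank D.red hi1
    exact ⟨n, hn, deg_eq k hi1 hs hi2 hn⟩

theorem valuationRing_stalk (k : Type u) [Field k] (X : Scheme.{u}) [X.Over (Spec (CommRingCat.of k))]
    [IsIntegral X] [Smooth (X ↘ Spec (CommRingCat.of k))] (hdim : topologicalKrullDim X = 1) (x : X) :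
    ValuationRing (X.presheaf.stalk x) :=
  Picfga.CurvePts.valuationRing_stalk (X ↘ Spec (CommRingCat.of k)) hdim.le x

/-- **The largest parabolic subgroup of maximal degree** (statement of S13764). -/
theorem exists_largest (hC : CoreSplit.{u}) (k : Type u) [Field k] (X : Scheme.{u}) [X.Over (Spec (CommRingCat.of k))]
    [IsIntegral X] [IsProper (X ↘ Spec (CommRingCat.of k))] (hval : ∀ x : X, ValuationRing (X.presheaf.stalk x))
    (hdim : topologicalKrullDim X = 1) (G : Over X) [GrpObj G] (hG : Red.IsReductive G) :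
    ∃ (P : Over X) (_ : GrpObj P) (i : P ⟶ G) (n : ℕ), Red.IsParabolic i ∧
      FlatMod.IsFinLocFreeOfRank n (LieS.omega P) ∧
      ∀ (Q : Over X) [GrpObj Q] (j : Q ⟶ G), Red.IsParabolic j →
        ∀ m : ℕ, FlatMod.IsFinLocFreeOfRank m (LieS.omega Q) →
          -Curv2.deg k X (LieS.omega Q) m ≤ -Curv2.deg k X (LieS.omega P) n ∧
          (Curv2.deg k X (LieS.omega Q) m = Curv2.deg k X (LieS.omega P) n → ∃ f : Q ⟶ P, f ≫ i = j) := by
  obtain ⟨D⟩ := nonempty_parData hG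
  obtain ⟨s, hs, hmax⟩ := coreMax (D := D) hC k X hdim hval (𝟙 X)
  obtain ⟨P, _, i, hi, hi2, hi3⟩ := exists_par_of_sec D s hs
  obtain ⟨n, hn, hdeg⟩ := hi3 k
  refine ⟨P, inferInstance, i, n, hi, hn, fun Q _ j hj m hm => ?_⟩
  obtain ⟨ψ, hψ, hψ2, hψ3⟩ := exists_sec D j hj
  rw [hψ3 k m hm, hdeg]
  refine ⟨(hmax ψ hψ).1, fun he => exists_fac_of_ptG fun Z g h => ?_⟩
  rw [hi2, ← Category.assoc]
  rw [hψ2, ← Category.assoc] at h
  exact (hmax ψ hψ).2 he Z (g ≫ G.hom) g h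

/-- **Reductive groups have degree zero** (statement of S13765). -/
theorem deg_zero (hC0 : CoreSplitZero.{u}) (k : Type u) [Field k] (X : Scheme.{u}) [X.Over (Spec (CommRingCat.of k))]
    [IsIntegral X] [IsProper (X ↘ Spec (CommRingCat.of k))] (hval : ∀ x : X, ValuationRing (X.presheaf.stalk x))
    (hdim : topologicalKrullDim X = 1) (G : Over X) [GrpObj G] (hG : Red.IsReductive G)
    (n : ℕ) (hn : FlatMod.IsFinLocFreeOfRank n (LieS.omega G)) :
    Curv2.deg k X (LieS.omega G) n = 0 := by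
  obtain ⟨T, _, i, hi⟩ := exists_gen_torus (K := X.functionField) hG (gen X)
  obtain ⟨L, _, _, _, _, r, hsp⟩ := exists_galois_split (K := X.functionField) hi.2.2.1
  obtain ⟨V⟩ := nonempty_galCover k X hdim hval L
  have hsp' : Red.IsSplitTorusWith (Fin r → ℤ) (Red.bc (kap V) T) :=
    TorusBc.isSplitTorusWith_of_iso (BcIso.bcCompIso V.e.hom (kap0 X L) T).symm
      (TorusAlgClosed.isSplitTorusWith_bc V.e.hom hsp)
  have hmx : Red.IsMaximalTorus (bcSub (kap V) i) := isMaximalTorus_kap V i hG hi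
  have hqs : QuasiSeparated G.hom := by
    have := hG.1
    infer_instance
  have e : LieS.omega (Red.bc V.q G) ≅ (Scheme.Modules.pullback V.q).obj (LieS.omega G) :=
    K795.OmegaGrp.omegaBC V.q G
  have hn2 := OmIso.ofRank_pullback V.q hn
  obtain ⟨c, hc, h⟩ := DegPull.exists_deg_pullback k hdim.le V.q V.hq
  obtain ⟨m, hm⟩ := OmIso.exists_rank (E := LieS.omega (Red.bc V.q G)) (by
    have h1 := (RedBcAny636.isReductive_bc V.q hG).1
    have h2 := (RedBcAny636.isReductive_bc V.q hG).2.1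
    exact K795.OmegaGrp.isFinLocFree_omega (Red.bc V.q G))
  have h0 := core0 hC0 k V.C V.dim V.val hG V.q (gen_q V) (Red.bc (kap V) T) (bcSub (kap V) i) hmx
    (Fin r → ℤ) hsp' m hm
  have h1 := h n _ hn
  rw [K795.CurveBound.deg_eq_dg k hn2, ← K795.CurveBound.dg_iso k e, ← K795.CurveBound.deg_eq_dg k hm, h0] at h1
  have hc3 : (c : ℤ) ≠ 0 := by exact_mod_cast hc.ne'
  exact (mul_eq_zero.mp h1.symm).resolve_left hc3

section Cover

variable (hC : CoreSplit.{u}) (k : Type u) [Field k] {X Y : Scheme.{u}} [X.Over (Spec (CommRingCat.of k))]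
    [Y.Over (Spec (CommRingCat.of k))]
    [IsIntegral X] [IsProper (X ↘ Spec (CommRingCat.of k))] (hval : ∀ x : X, ValuationRing (X.presheaf.stalk x))
    (hdim : topologicalKrullDim X = 1)
    [IsIntegral Y] [IsProper (Y ↘ Spec (CommRingCat.of k))] (hvalY : ∀ x : Y, ValuationRing (Y.presheaf.stalk x))
    (hdimY : topologicalKrullDim Y = 1)
    (p : Y ⟶ X) [IsFinite p] (hp : p ≫ (X ↘ Spec (CommRingCat.of k)) = Y ↘ Spec (CommRingCat.of k))
    (hsep : ∃ U : Y.Opens, (U : Set Y).Nonempty ∧ Etale (U.ι ≫ p)) {G : Over X} [GrpObj G] (D : ParData G)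

include hC hval hdim hvalY hdimY hp hsep in
/-- a section which classifies the largest parabolic subgroup of maximal degree over `X` and over `Y` -/
theorem exists_largest_over :
    ∃ s : X ⟶ D.M.left, s ≫ D.M.hom = 𝟙 X ∧
      (∀ ψ : X ⟶ D.M.left, ψ ≫ D.M.hom = 𝟙 X →
        -D.dg k ψ ≤ -D.dg k s ∧ (D.dg k ψ = D.dg k s → D.Le ψ s)) ∧
      ∀ ψ : Y ⟶ D.M.left, ψ ≫ D.M.hom = p →
        -D.dg k ψ ≤ -D.dg k (p ≫ s) ∧ (D.dg k ψ = D.dg k (p ≫ s) → D.Le ψ (p ≫ s)) := by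
  obtain ⟨L, _, _, _, _, V, r, _, _, _, hr⟩ := Sep.exists_galCover_over p k hdim hval hvalY hsep
  obtain ⟨φ, hφ, hmax⟩ := coreMax (D := D) hC k V.C V.dim V.val V.q
  obtain ⟨s, hs, hs2⟩ := exists_descent V hval (𝟙 X) φ (by rw [hφ, Category.comp_id]) fun a g ha1 ha2 =>
    (hmax (a.hom ≫ φ) (by rw [Category.assoc, hφ, ha1])).2 (dg_aut V a ha1 φ)
  refine ⟨s, hs, fun ψ hψ => ?_, fun ψ hψ => ?_⟩
  · obtain ⟨c, hc, hc2⟩ := exists_dg_comp (D := D) k hdim.le V.q V.hq
    have h1 := hmax (V.q ≫ ψ) (by rw [Category.assoc, hψ, Category.comp_id])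
    rw [← hs2, hc2, hc2] at h1
    have hc3 : (0 : ℤ) < c := by exact_mod_cast hc
    exact ⟨by nlinarith [h1.1], fun h => Le.of_comp (hψ.trans hs.symm) V.q (h1.2 (by rw [h]))⟩
  · have hrk : r ≫ (Y ↘ Spec (CommRingCat.of k)) = V.C ↘ Spec (CommRingCat.of k) := by
      rw [← hp, reassoc_of% hr, V.hq]
    obtain ⟨c, hc, hc2⟩ := exists_dg_comp (D := D) k hdimY.le r hrk
    have h1 := hmax (r ≫ ψ) (by rw [Category.assoc, hψ, hr])
    rw [← hs2, ← hr, Category.assoc, hc2, hc2] at h1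
    have hc3 : (0 : ℤ) < c := by exact_mod_cast hc
    exact ⟨by nlinarith [h1.1], fun h => Le.of_comp (by rw [hψ, Category.assoc, hs, Category.comp_id]) r
      (h1.2 (by rw [h]))⟩

end Cover

end K204.Fin
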