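import Groth.Agent.CanPar.K204.AsmK
import Groth.Agent.CanPar.K204.Fin
import Groth.Agent.CanPar.K795.Iface2
import Groth.Agent.CanPar.K675.Conv
import Groth.Agent.RedSub.H671.IwaPt
import Groth.Agent.Sga3B.SplitRedField415
import Groth.Agent.Sga3B.Parab.OppRow172
import Groth.Agent.S2959

/-!
# Assembly: `Core → CoreSplit` and `Core → CoreSplitZero`
-/

set_option autoImplicit false
universe u

open CategoryTheory CategoryTheory.Limits MonoidalCategory CartesianMonoidalCategory MonObj GrpObj AlgebraicGeometry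

namespace K204.Asm

open Groth.Agent.Sga3B Groth.Agent.Sga3B.Parab Groth.Agent.Sga3B.Par Groth.Agent.CanPar.K795.Iface

section Gen

variable {Z : Scheme.{u}} [IsIntegral Z] {G P Q : Over Z} [GrpObj G] [GrpObj P] [GrpObj Q]

omit [GrpObj P] [GrpObj Q] [GrpObj G] in
/-- A subscheme flat over an integral base whose generic fibre is contained in a closed subscheme is contained
in it. -/
theorem exists_fac_of_gen (p : P ⟶ G) (q : Q ⟶ G) [Smooth P.hom] [IsClosedImmersion q.left]
    (f : (Over.pullback (gen Z)).obj P ⟶ (Over.pullback (gen Z)).obj Q)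
    (hf : f ≫ (Over.pullback (gen Z)).map q = (Over.pullback (gen Z)).map p) : ∃ f : P ⟶ Q, f ≫ q = p := by
  have hred : IsReduced P.left := Groth.Agent.Etcore.SmoothRed.isReduced_of_smooth P.hom
  let r : pullback p.left q.left ⟶ P.left := pullback.fst p.left q.left
  have hr : IsClosedImmersion r := inferInstance
  have hfac : ∃ c : pullback P.hom (gen Z) ⟶ pullback p.left q.left, c ≫ r = pullback.fst P.hom (gen Z) := by
    have e1 : ((Over.pullback (gen Z)).map p).left ≫ pullback.fst G.hom (gen Z) =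
        pullback.fst P.hom (gen Z) ≫ p.left := pullback.lift_fst _ _ _
    have e2 : ((Over.pullback (gen Z)).map q).left ≫ pullback.fst G.hom (gen Z) =
        pullback.fst Q.hom (gen Z) ≫ q.left := pullback.lift_fst _ _ _
    refine ⟨pullback.lift (pullback.fst P.hom (gen Z)) (f.left ≫ pullback.fst Q.hom (gen Z)) ?_,
      pullback.lift_fst _ _ _⟩
    rw [← e1, ← hf, Over.comp_left, Category.assoc, Category.assoc, e2]
  have hsurj : Surjective r := by
    constructor
    rw [← Set.range_eq_univ, ← (Scheme.Hom.isClosedEmbedding r).isClosed_range.closure_eq]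
    refine Set.eq_univ_of_univ_subset ?_
    have h1 : closure (Set.range (pullback.fst P.hom (gen Z))) = Set.univ := by
      rw [Scheme.Pullback.range_fst]
      have h2 : (P.hom ⁻¹' closure (Set.range (gen Z))) = closure (P.hom ⁻¹' (Set.range (gen Z))) :=
        P.hom.isOpenMap.preimage_closure_eq_closure_preimage P.hom.continuous _
      rw [← h2]
      have h3 : closure (Set.range (gen Z)) = Set.univ := by
        have := K204.GalNorm.isDominant_fromSpecStalk Z
        exact (gen Z).denseRange.closure_range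
      rw [h3, Set.preimage_univ]
    rw [← h1]
    apply closure_mono
    obtain ⟨c, hc⟩ := hfac
    rw [← hc]
    rintro _ ⟨y, rfl⟩
    exact ⟨c y, (Scheme.Hom.comp_apply _ _ _).symm⟩
  have hiso : IsIso r := isIso_of_isClosedImmersion_of_surjective r
  refine ⟨Over.homMk (inv r ≫ pullback.snd p.left q.left) ?_, ?_⟩
  · rw [← Over.w q, ← Over.w p, Category.assoc, ← Category.assoc (pullback.snd _ _),
      ← pullback.condition, Category.assoc, IsIso.inv_hom_id_assoc]
  · ext1
    change (inv r ≫ pullback.snd _ _) ≫ q.left = p.left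
    rw [Category.assoc, ← pullback.condition, IsIso.inv_hom_id_assoc]

/-- Parabolic subgroups with the same generic fibre have the same degree. -/
theorem deg_eq (k : Type u) [Field k] [Z.Over (Spec (CommRingCat.of k))] (hG : Red.IsReductive G) (p : P ⟶ G)
    (q : Q ⟶ G) (hp : Red.IsParabolic p) (hq : Red.IsParabolic q) {lam : Red.Gm _ ⟶ Red.bc (gen Z) G}
    (hdp : IsDynP lam ((Over.pullback (gen Z)).map p)) (hdq : IsDynP lam ((Over.pullback (gen Z)).map q)) {n m : ℕ}
    (hn : FlatMod.IsFinLocFreeOfRank n (LieS.omega P)) (hm : FlatMod.IsFinLocFreeOfRank m (LieS.omega Q)) :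
    Curv2.deg k Z (LieS.omega P) n = Curv2.deg k Z (LieS.omega Q) m := by
  have h1 := hp.2.1
  have h2 := hq.2.1
  have h3 := hp.2.2.1
  have h4 := hq.2.2.1
  have h5 := hp.1
  have h6 := hq.1
  have hpm : Mono p := Over.mono_of_mono_left p
  have hqm : Mono q := Over.mono_of_mono_left q
  obtain ⟨φ, hφ⟩ := (hdq.iff_ptP _ ((Over.pullback (gen Z)).map p)).2 hdp.ptP
  obtain ⟨ψ, hψ⟩ := (hdp.iff_ptP _ ((Over.pullback (gen Z)).map q)).2 hdq.ptP
  obtain ⟨a, ha⟩ := exists_fac_of_gen p q φ hφ
  obtain ⟨b, hb⟩ := exists_fac_of_gen q p ψ hψ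
  let e : P ≅ Q := ⟨a, b, by rw [← cancel_mono p, Category.assoc, hb, ha, Category.id_comp],
    by rw [← cancel_mono q, Category.assoc, ha, hb, Category.id_comp]⟩
  have he : IsMonHom e.hom := by
    have hc : e.hom ≫ q = p := ha
    constructor
    · rw [← cancel_mono q, Category.assoc, hc, IsMonHom.one_hom (f := q), IsMonHom.one_hom (f := p)]
    · rw [← cancel_mono q, Category.assoc, hc, IsMonHom.mul_hom (f := p), Category.assoc,
        IsMonHom.mul_hom (f := q), ← Category.assoc, tensorHom_comp_tensorHom, hc]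
  have hGa := hG.1
  have hqs : QuasiSeparated Q.hom := by
    rw [← Over.w q]
    infer_instance
  rw [K795.CurveBound.deg_eq_dg k hn, K795.CurveBound.deg_eq_dg k hm,
    K795.CurveBound.dg_iso k (K204.OmIso.omegaCongr e)]

variable (D : Red.SplitRed (Red.bc (gen Z) G))

/-- The parabolic subgroup attached to a cocharacter of a generic splitting. -/
theorem exists_par (k : Type u) [Field k] [Z.Over (Spec (CommRingCat.of k))] [IsProper (Z ↘ Spec (CommRingCat.of k))]
    (hval : ∀ z : Z, ValuationRing (Z.presheaf.stalk z)) (hG : Red.IsReductive G) (x : D.M →+ ℤ) :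
    ∃ (P : Over Z) (_ : GrpObj P) (p : P ⟶ G) (n : ℕ), Red.IsParabolic p ∧
      FlatMod.IsFinLocFreeOfRank n (LieS.omega P) ∧
      IsDynP (Par.coch D x.toIntLinearMap) ((Over.pullback (gen Z)).map p) := by
  have hsep := K204.Desc.isSeparated_of_proper k Z
  have hGa := D.reductive.1
  obtain ⟨PK, _, iK, hiK, hcl⟩ := DynExist998.exists_isDynP (Par.coch D x.toIntLinearMap)
  have hpar : Red.IsParabolic iK := isParabolic_of_isDynP _ Uncond688.dynK1 D.reductive iK hiK
  obtain ⟨P, _, p, hp, e, he⟩ := K795.ParExt.exists_ext hval hG iK hpar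
  have hpm := hp.1
  have hpcl := hp.2.1
  have hps := hp.2.2.1
  have hGa' := hG.1
  have hqs : QuasiSeparated P.hom := by
    rw [← Over.w p]
    infer_instance
  obtain ⟨n, hn⟩ := K204.OmIso.exists_rank (K795.OmegaGrp.isFinLocFree_omega P)
  exact ⟨P, inferInstance, p, n, hp, hn, OppRow172.isDynP_of_iso hiK e he inferInstance⟩

end Gen

/-- **Core with a generic splitting** -/
theorem split (hCore : Core.{u}) (k : Type u) [Field k] (Z : Scheme.{u}) [Z.Over (Spec (CommRingCat.of k))]
    [IsIntegral Z] [IsProper (Z ↘ Spec (CommRingCat.of k))] (hdim : topologicalKrullDim Z = 1)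
    (hval : ∀ z : Z, ValuationRing (Z.presheaf.stalk z)) (G : Over Z) [GrpObj G] (hG : Red.IsReductive G)
    (D : Red.SplitRed (Red.bc (gen Z) G)) :
    ∃ (P : Over Z) (_ : GrpObj P) (p : P ⟶ G) (n : ℕ), Red.IsParabolic p ∧
      FlatMod.IsFinLocFreeOfRank n (LieS.omega P) ∧ GenLe D.i p ∧
      ∀ (Q : Over Z) [GrpObj Q] (q : Q ⟶ G), Red.IsParabolic q → GenLe D.i q →
        ∀ m : ℕ, FlatMod.IsFinLocFreeOfRank m (LieS.omega Q) →
          -Curv2.deg k Z (LieS.omega Q) m ≤ -Curv2.deg k Z (LieS.omega P) n ∧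
          (Curv2.deg k Z (LieS.omega Q) m = Curv2.deg k Z (LieS.omega P) n → ∃ f : Q ⟶ P, f ≫ p = q) := by
  choose P gP p n hp hn hd using exists_par D k hval hG
  have hred : D.P.IsReduced := SplitReduced415.isReduced D
  obtain ⟨x₀, hx₀⟩ := K675.Conv.conv D.idx D.M D.P D.pairing_eq
    (fun x => -(Curv2.deg k Z (LieS.omega (P x)) (n x) : ℝ)) (fun l hl => by
      obtain ⟨b, hb⟩ := Groth.Agent.RedSub.H671.IwaPt.exists_base D.P l
      obtain ⟨d, hd'⟩ := hCore k Z hdim hval G hG D b
      refine ⟨d, fun x => ?_⟩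
      have h1 := hd' x (P x) (p x) (hp x).1 (hp x).2.1 (hp x).2.2.1 (hd x) (n x) (hn x)
      refine ⟨h1.1, fun h => h1.2 fun a ha => h a ?_⟩
      have h2 := hb a ha
      have h3 := hl a
      omega)
  refine ⟨P x₀, gP x₀, p x₀, n x₀, hp x₀, hn x₀, ?_, ?_⟩
  · exact ((hd x₀).iff_ptP _ _).2 (BorLB2991.ptP_torus D x₀)
  · intro Q _ q hq hTq m hm
    have hqK : Red.IsParabolic ((Over.pullback (gen Z)).map q) :=
      Groth.Agent.RedSub.H648.BorBc.isParabolic_bc (gen Z) hG hq
    obtain ⟨j, hj⟩ := hTq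
    obtain ⟨x, hx⟩ := AsmK.exists_cochar D _ hqK j hj
    have hdeg := deg_eq k hG q (p x) hq (hp x) hx (hd x) hm (hn x)
    obtain ⟨h1, h2⟩ := hx₀ x
    refine ⟨?_, fun he => ?_⟩
    · rw [hdeg]
      exact_mod_cast h1
    · have h3 := h2 (by
        rw [← hdeg, he])
      have hqs := hq.2.2.1
      have hcl := (hp x₀).2.1
      obtain ⟨f, hf⟩ := ((hd x₀).iff_ptP _ ((Over.pullback (gen Z)).map q)).2
        (fun C _ c y => Signs.limEx (D := D) h3 (hx.ptP C c y))
      exact exists_fac_of_gen q (p x₀) f hf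

theorem coreSplit (hCore : Core.{u}) : CoreSplit.{u} := by
  intro k _ Z _ _ _ hdim hval G _ hG T _ i hi M _ _ _ hM
  have hGK := Groth.Agent.Sga3B.RedBcAny636.isReductive_bc (gen Z) hG
  have hl : IsLocalRing (Z.presheaf.stalk (genericPoint Z)) := inferInstance
  obtain ⟨D, hT, hDi⟩ := @Groth.Agent.S2959.result (Z.presheaf.stalk (genericPoint Z)) _ hl (Red.bc (gen Z) G) T _ _
    hGK i hi M _ _ _ hM
  subst hT
  obtain rfl := eq_of_heq hDi
  exact split hCore k Z hdim hval G hG D

theorem coreSplitZero (hCore : Core.{u}) : CoreSplitZero.{u} := by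
  intro k _ Z _ _ _ hdim hval G _ hG T _ i hi M _ _ _ hM n hn
  have hGK := Groth.Agent.Sga3B.RedBcAny636.isReductive_bc (gen Z) hG
  have hl : IsLocalRing (Z.presheaf.stalk (genericPoint Z)) := inferInstance
  obtain ⟨D, -, -⟩ := @Groth.Agent.S2959.result (Z.presheaf.stalk (genericPoint Z)) _ hl (Red.bc (gen Z) G) T _ _
    hGK i hi M _ _ _ hM
  have hred : D.P.IsReduced := SplitReduced415.isReduced D
  obtain ⟨b, -⟩ := Groth.Agent.RedSub.H671.IwaPt.exists_base D.P (0 : D.M →+ ℤ)
  obtain ⟨d, hd⟩ := hCore k Z hdim hval G hG D b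
  have hs : Smooth G.hom := hG.2.1
  have h0 : IsDynP (Par.coch D (0 : D.M →+ ℤ).toIntLinearMap) ((Over.pullback (gen Z)).map (𝟙 G)) := by
    rw [CategoryTheory.Functor.map_id]
    exact AsmK.isDynP_zero D
  have hid : IsClosedImmersion (𝟙 G : G ⟶ G).left := by
    rw [Over.id_left]
    infer_instance
  have h1 := (hd 0 G (𝟙 G) inferInstance hid hs h0 n hn).2 fun a _ => le_rfl
  have h2 : d (rootSum D.P (0 : D.M →+ ℤ)) = 0 := by
    rw [K675.Conv.hom_rootSum]
    simp
  rw [h2, neg_eq_zero] at h1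
  exact_mod_cast h1

end K204.Asm
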