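import Groth.Agent.CanPar.K795.Iface
import Groth.Agent.Sga3B.Par.CanSigns
import Groth.Agent.Sga3B.Par.DynDesc383
import Groth.Agent.Sga3B.Parab.Uncond688
import Groth.Agent.Sga3B.BorSub908
import Groth.Agent.Sga3B.BorLB2991
import Groth.Agent.Sga3B.Parab.DynFib678
import Groth.Agent.Etcore.SmoothRed

/-!
# Dynamic parabolic subgroups over a field and extension of inclusions from the generic point
-/

set_option autoImplicit false
universe u

open CategoryTheory CategoryTheory.Limits MonoidalCategory CartesianMonoidalCategory MonObj GrpObj AlgebraicGeometry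

namespace K204.AsmK

open Groth.Agent.Sga3B Groth.Agent.Sga3B.Parab Groth.Agent.Sga3B.Par

section field

variable {K : Type u} [Field K]

/-- Geometric points of the spectrum of a field are faithfully flat. -/
theorem flat_geomPt (s : Spec (CommRingCat.of K)) : Flat (Red.geomPt s) := by
  obtain ⟨φ, hφ⟩ := Spec.map_surjective (Red.geomPt s)
  rw [← hφ]
  exact (HasRingHomProperty.Spec_iff (P := @Flat)).mpr (RingHom.Flat.of_isField (Field.toIsField K) φ.hom)

theorem surjective_geomPt (s : Spec (CommRingCat.of K)) : Surjective (Red.geomPt s) := by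
  have h : Subsingleton (Spec (CommRingCat.of K)) := inferInstanceAs (Subsingleton (PrimeSpectrum K))
  exact ⟨fun y => ⟨IsLocalRing.closedPoint _, Subsingleton.elim _ _⟩⟩

/-- A parabolic subgroup over a field containing the torus of a splitting is dynamic. -/
theorem exists_cochar {G P : Over (Spec (CommRingCat.of K))} [GrpObj G] [GrpObj P]
    (D : Red.SplitRed G) (p : P ⟶ G) (hp : Red.IsParabolic p) (j : D.T ⟶ P) (hj : j ≫ p = D.i) :
    ∃ x : D.M →+ ℤ, IsDynP (Par.coch D x.toIntLinearMap) p := by
  have hpm := hp.1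
  have hcl := hp.2.1
  have hpmono : Mono p := Over.mono_of_mono_left p
  have hGa := D.reductive.1
  have hj' : Red.IsMaximalTorus j := BorSub908.isMaximalTorus_of_comp p j (by rw [hj]; exact D.maximalTorus)
  obtain ⟨x, hx⟩ := exists_cochar_geom Uncond688.dynK2 D.reductive hp hj' D.split (IsLocalRing.closedPoint K)
  refine ⟨x, ?_⟩
  have h1 : Red.DSmap _ x ≫ D.split.inv.hom.hom ≫ j ≫ p = Par.coch D x.toIntLinearMap := by
    rw [hj, Par.coch, Par.cochT, Category.assoc]
    rfl
  rw [h1] at hx
  have := flat_geomPt (K := K) (IsLocalRing.closedPoint K)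
  have := surjective_geomPt (K := K) (IsLocalRing.closedPoint K)
  exact DynDesc383.isDynP_of_bc' (Red.geomPt _) _ p hx

end field

section zero

variable {S : Scheme.{u}} {G : Over S} [GrpObj G] (D : Red.SplitRed G)

theorem DSmap_zero (M N : Type) [AddCommGroup M] [AddCommGroup N] {X : Over S} (t : X ⟶ Red.DS S N) :
    t ≫ Red.DSmap S (0 : M →+ N) = 1 := by
  rw [← DSPts.dsEquiv_dsChar (t ≫ Red.DSmap S (0 : M →+ N)), DSPts.dsChar_DSmap]
  have h : (DSPts.dsChar t).comp (AddMonoidHom.toMultiplicative (0 : M →+ N)) = 1 := by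
    ext m
    exact map_one (DSPts.dsChar t)
  rw [h]
  exact map_one (DSPts.dsEquiv X M)

/-- The parabolic subgroup of the trivial cocharacter is the whole group. -/
theorem isDynP_zero : IsDynP (Par.coch D 0) (𝟙 G) := by
  rw [DynFib678.isDynP_id_iff]
  intro X g C _ c x
  refine ⟨linPr C c ≫ x ≫ g, ?_⟩
  have h0 : ∀ (Y : Over S) (t : Y ⟶ Red.Gm S), t ≫ Par.coch D 0 = 1 := by
    intro Y t
    have h1 : IsMonHom D.split.inv.hom.hom := D.split.inv.hom.isMonHom_hom
    have h2 := D.maximalTorus.1
    have h3 := DSmap_zero (S := S) D.M ℤ t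
    rw [Par.coch, Par.cochT, ← Category.assoc, ← Category.assoc]
    refine (congrArg (fun z => (z ≫ D.split.inv.hom.hom) ≫ D.i) h3).trans ?_
    rw [MonObj.one_comp, MonObj.one_comp]
  rw [orb, h0, _root_.one_mul, inv_one, _root_.mul_one, ← Category.assoc, toLin_linPr]

end zero

end K204.AsmK
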