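import Groth.Agent.VarietyB.DegPhi
import Groth.Agent.VarietyA.DegRank
import Groth.Agent.CohqB.FinAmple

/-!
# Degree of the pull-back of a bundle along a finite surjective morphism of integral curves

* `exists_deg_pullback`: for `f : Z ⟶ X` finite and surjective, `Z`, `X` integral, `X` a proper curve over `k`,
  there is `c > 0` with `deg (f^* E) = c * deg E` for all locally free `E` of rank `n`.
-/

set_option autoImplicit false
universe u

open CategoryTheory CategoryTheory.Limits AlgebraicGeometry TopologicalSpace Opposite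

namespace K204.DegPull

open Groth.Agent Groth.Agent.VarietyA.DegRank Groth.Agent.VarietyB.DegPhi Groth.Agent.VarietyB.TensCoh

variable (k : Type u) [Field k] {X Z : Scheme.{u}} [X.Over (Spec (CommRingCat.of k))]
  [Z.Over (Spec (CommRingCat.of k))]

/-- if a stalk of a module vanishes, every section over a neighbourhood vanishes on a smaller one -/
theorem exists_res_eq_zero (M : X.Modules) (x : X) (h : Subsingleton (M.presheaf.stalk x)) (U : X.Opens) (hx : x ∈ U)
    (s : M.presheaf.obj (op U)) : ∃ (W : X.Opens) (_ : x ∈ W) (i : W ⟶ U), M.presheaf.map i.op s = 0 := by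
  have h1 : M.presheaf.germ U x hx s = M.presheaf.germ U x hx 0 := Subsingleton.elim _ _
  obtain ⟨W, hW, i₁, i₂, h2⟩ := TopCat.Presheaf.germ_eq M.presheaf x hx hx s 0 h1
  exact ⟨W, hW, i₁, h2.trans (map_zero _)⟩

theorem rk_pos [IsIntegral X] [IsLocallyNoetherian X] (f : Z ⟶ X) [IsFinite f] [Surjective f] :
    0 < rk ((Coh.push f).obj (Coh.structureModule Z)) := by
  have hc : Coh.IsCoh ((Coh.push f).obj (Coh.structureModule Z)) :=
    CohqB.FinAmple.isCoh_push f (CurvesB.UnitCoh.isCoh_structureModule Z)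
  have : Module.Finite (X.presheaf.stalk (genericPoint X))
      (((Coh.push f).obj (Coh.structureModule Z)).presheaf.stalk (genericPoint X)) := by
    have := Groth.Agent.Ega3B.Devissage.isNoetherian_stalk hc (genericPoint X)
    infer_instance
  rw [Nat.pos_iff_ne_zero]
  intro h0
  rw [rk] at h0
  let _ : Field (X.presheaf.stalk (genericPoint X)) := inferInstanceAs (Field X.functionField)
  have hs : Subsingleton (((Coh.push f).obj (Coh.structureModule Z)).presheaf.stalk (genericPoint X)) :=
    Module.finrank_zero_iff.mp h0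
  obtain ⟨W, hW, i, hi⟩ := exists_res_eq_zero _ _ hs ⊤ trivial (1 : Γ(Z, f ⁻¹ᵁ ⊤))
  have h1 : (1 : Γ(Z, f ⁻¹ᵁ W)) = 0 :=
    (map_one (Z.presheaf.map ((Opens.map f.base).map i).op).hom).symm.trans hi
  obtain ⟨z, hz⟩ := f.surjective (genericPoint X)
  have : Nonempty (f ⁻¹ᵁ W : Z.Opens) := ⟨⟨z, by simpa [hz] using hW⟩⟩
  have : Nontrivial Γ(Z, f ⁻¹ᵁ W) := Scheme.component_nontrivial Z _
  exact one_ne_zero h1

theorem exists_deg_pullback [IsIntegral X] [IsProper (X ↘ (Spec (CommRingCat.of k)))]
    (hdim : topologicalKrullDim X ≤ 1) (f : Z ⟶ X) [IsFinite f] [Surjective f]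
    (hf : f ≫ (X ↘ (Spec (CommRingCat.of k))) = Z ↘ (Spec (CommRingCat.of k))) :
    ∃ c : ℕ, 0 < c ∧ ∀ (n : ℕ) (E : X.Modules), FlatMod.IsFinLocFreeOfRank n E →
      Curv2.deg k Z ((Scheme.Modules.pullback f).obj E) n = c * Curv2.deg k X E n := by
  have : IsNoetherian X :=
    Groth.Agent.VarietyA.GlobGen.isNoetherian_of_finiteType (X ↘ (Spec (CommRingCat.of k)))
  have hc : Coh.IsCoh ((Coh.push f).obj (Coh.structureModule Z)) :=
    CohqB.FinAmple.isCoh_push f (CurvesB.UnitCoh.isCoh_structureModule Z)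
  refine ⟨rk ((Coh.push f).obj (Coh.structureModule Z)), rk_pos f, fun n E hE => ?_⟩
  rw [← phi_push k f hf (HasBases.of_isFinLocFreeOfRank hE), phi]
  have h := euler_tensor_curve k hdim n E hE _ hc
  linarith

end K204.DegPull
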