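import Groth.Agent.Etcore.RootCover
import Groth.Agent.Sga3C.DimTop
import Groth.Agent.CanPar.K204.FlatLift

/-!
# Normalization of a normal curve in a finite separable extension of its function field

* `isDedekindDomain_sections`, `valuationRing_stalk`;
* `GalCover`, `nonempty_galCover`: the same as a structure, with the action of the Galois group;
* `exists_galNorm`: for a proper normal curve `X` over `k` and a finite separable extension `L` of its function
  field there is a normal proper curve `Z`, finite over `X`, with function field `L`, on which the endomorphisms of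
  `Spec L` over `X` act.
-/

set_option autoImplicit false
universe u

open CategoryTheory CategoryTheory.Limits AlgebraicGeometry TopologicalSpace

namespace K204.GalNorm

open Groth.Agent.Ega2.NormChart Groth.Agent.Etcore.RootCover

theorem appLE_eq_germ {X : Scheme.{u}} {R : CommRingCat.{u}} {x : X} (φ : X.presheaf.stalk x ⟶ R) (w : Spec R ⟶ X)
    (hw : Spec.map φ ≫ X.fromSpecStalk x = w) (V : X.Opens)
    (hx : x ∈ V) (e : ⊤ ≤ w ⁻¹ᵁ V) (b : Γ(X, V)) :
    (w.appLE V ⊤ e ≫ (Scheme.ΓSpecIso R).hom).hom b = φ.hom (X.presheaf.germ V x hx b) := by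
  subst hw
  exact congrArg (fun z => z.hom b) (appLE_comp_fromSpecStalk x φ V hx e)

section Stalks

variable {X : Scheme.{u}} [IsIntegral X]

/-- sections over affine opens of a normal curve are Dedekind -/
theorem isDedekindDomain_sections [IsLocallyNoetherian X] (hX : ∀ x : X, ValuationRing (X.presheaf.stalk x))
    {V : X.Opens} (hV : IsAffineOpen V) [Nonempty V] : IsDedekindDomain Γ(X, V) := by
  have hN : IsNoetherianRing Γ(X, V) := IsLocallyNoetherian.component_noetherian ⟨V, hV⟩
  have hD : IsDedekindDomainDvr Γ(X, V) := by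
    refine { is_dvr_at_nonzero_prime := ?_ }
    intro p hp hpp
    let y : PrimeSpectrum Γ(X, V) := ⟨p, hpp⟩
    have hy : hV.fromSpec y ∈ V := by
      rw [← SetLike.mem_coe, ← hV.range_fromSpec]; exact ⟨y, rfl⟩
    let _ := TopCat.Presheaf.algebra_section_stalk X.presheaf ⟨hV.fromSpec y, hy⟩
    have hl : IsLocalization.AtPrime (X.presheaf.stalk (hV.fromSpec y)) p :=
      hV.isLocalization_stalk' y hy
    have hnf := IsLocalization.AtPrime.not_isField Γ(X, V) hp (X.presheaf.stalk (hV.fromSpec y))
    have hval := hX (hV.fromSpec y)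
    have h1 : IsDiscreteValuationRing (X.presheaf.stalk (hV.fromSpec y)) :=
      ((IsDiscreteValuationRing.TFAE _ hnf).out 0 1).mpr hval
    exact IsDiscreteValuationRing.RingEquivClass.isDiscreteValuationRing
      (IsLocalization.algEquiv p.primeCompl (X.presheaf.stalk (hV.fromSpec y))
        (Localization.AtPrime p)).toRingEquiv
  infer_instance

/-- stalks of Dedekind schemes are valuation rings -/
theorem valuationRing_stalk {W : X.Opens} (hW : IsAffineOpen W) [IsDedekindDomain Γ(X, W)] (x : X) (hx : x ∈ W) :
    ValuationRing (X.presheaf.stalk x) := by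
  let _ : Algebra Γ(X, W) (X.presheaf.stalk x) := TopCat.Presheaf.algebra_section_stalk X.presheaf ⟨x, hx⟩
  have hloc : IsLocalization.AtPrime (X.presheaf.stalk x) (hW.primeIdealOf ⟨x, hx⟩).asIdeal :=
    hW.isLocalization_stalk ⟨x, hx⟩
  by_cases h : (hW.primeIdealOf ⟨x, hx⟩).asIdeal = ⊥
  · have h2 : IsFractionRing Γ(X, W) (X.presheaf.stalk x) := by
      have h3 : (hW.primeIdealOf ⟨x, hx⟩).asIdeal.primeCompl = nonZeroDivisors Γ(X, W) := by
        ext a
        rw [mem_nonZeroDivisors_iff_ne_zero, Ideal.mem_primeCompl_iff, h, Ideal.mem_bot]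
      rw [IsFractionRing, ← h3]
      exact hloc
    have h4 : IsField (X.presheaf.stalk x) := by
      let _ := IsFractionRing.toField Γ(X, W) (K := X.presheaf.stalk x)
      exact Field.toIsField _
    let _ := h4.toField
    infer_instance
  · have := IsLocalization.AtPrime.isDiscreteValuationRing_of_dedekind_domain Γ(X, W) h (X.presheaf.stalk x)
    infer_instance

end Stalks

theorem isDominant_fromSpecStalk (X : Scheme.{u}) [IrreducibleSpace X] :
    IsDominant (X.fromSpecStalk (genericPoint X)) := by
  constructor
  rw [DenseRange, Scheme.range_fromSpecStalk]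
  refine (dense_iff_closure_eq.mpr (genericPoint_spec X)).mono ?_
  rintro _ rfl
  exact specializes_rfl

section Norm

variable {X : Scheme.{u}} [IsIntegral X] (L : Type u) [Field L] [Algebra X.functionField L]

theorem isDominant_gen : IsDominant (gen (X := X) L) := by
  constructor
  rw [DenseRange, dense_iff_closure_eq]
  refine Set.eq_univ_of_univ_subset ?_
  have h1 : closure {genericPoint X} = Set.univ := genericPoint_closure X
  rw [← h1]
  apply closure_mono
  rintro _ rfl
  exact ⟨IsLocalRing.closedPoint L, gen_apply L _⟩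

omit [IsIntegral X] in
theorem exists_affine (x : X) : ∃ V : X.Opens, IsAffineOpen V ∧ x ∈ V := by
  obtain ⟨_, ⟨V, hV, rfl⟩, hxV, -⟩ :=
    X.isBasis_affineOpens.exists_subset_of_mem_open (Set.mem_univ x) isOpen_univ
  exact ⟨V, hV, hxV⟩

variable [AlgebraicGeometry.IsNoetherian X] [FiniteDimensional X.functionField L] [Algebra.IsSeparable X.functionField L]
  [QuasiCompact (gen (X := X) L)] [QuasiSeparated (gen (X := X) L)]

theorem isFinite_from (hX : Pi1.IsNormalScheme X) : IsFinite (gen (X := X) L).fromNormalization := by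
  choose V hV hxV using exists_affine (X := X)
  have hne : ∀ x, Nonempty (V x) := fun x => ⟨⟨x, hxV x⟩⟩
  exact Groth.Agent.Ega2.NormCurve.isFinite_of_cover _ V hV
      (by rw [eq_top_iff]; intro x _; exact TopologicalSpace.Opens.mem_iSup.mpr ⟨x, hxV x⟩)
      fun x => finite_app L hX (V x) (hV x)

omit [AlgebraicGeometry.IsNoetherian X] [FiniteDimensional X.functionField L] [Algebra.IsSeparable X.functionField L] in
theorem surjective_from : Surjective (gen (X := X) L).fromNormalization := by
  have := isDominant_gen (X := X) L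
  have : IsDominant (gen (X := X) L).fromNormalization := by
    have : IsDominant ((gen (X := X) L).toNormalization ≫ (gen (X := X) L).fromNormalization) := by
      rw [(gen (X := X) L).toNormalization_fromNormalization]; infer_instance
    exact IsDominant.of_comp (gen (X := X) L).toNormalization _
  exact surjective_of_isDominant_of_isClosed_range _ (gen (X := X) L).fromNormalization.isClosedMap.isClosed_range

theorem isDedekind_norm (hX : ∀ x : X, ValuationRing (X.presheaf.stalk x)) (V : X.Opens) (hV : IsAffineOpen V)
    [Nonempty V] : IsDedekindDomain Γ((gen (X := X) L).normalization, (gen (X := X) L).fromNormalization ⁻¹ᵁ V) := by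
  have := isDedekindDomain_sections hX hV
  have := functionField_isFractionRing_of_isAffineOpen X V hV
  let τ : Γ(X, V) →+* L := toK (gen (X := X) L) V (gen_preimage L V)
  let _ : Algebra Γ(X, V) L := τ.toAlgebra
  have : IsScalarTower Γ(X, V) X.functionField L := IsScalarTower.of_algebraMap_eq (toK_gen L V)
  have hded : IsDedekindDomain (integralClosure Γ(X, V) L) :=
    integralClosure.isDedekindDomain Γ(X, V) X.functionField L
  let _ : Algebra Γ(X, V) Γ((gen (X := X) L).normalization, (gen (X := X) L).fromNormalization ⁻¹ᵁ V) :=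
    ((gen (X := X) L).fromNormalization.app V).hom.toAlgebra
  have hcomp := normToK_comp (gen (X := X) L) V (gen_preimage L V)
  let ν : Γ((gen (X := X) L).normalization, (gen (X := X) L).fromNormalization ⁻¹ᵁ V) →ₐ[Γ(X, V)] L :=
    { normToK (gen (X := X) L) V (gen_preimage L V) with
      commutes' := fun r => congrArg (fun z : Γ(X, V) →+* L => z r) hcomp }
  have hν : Function.Injective ν := normToK_injective (gen (X := X) L) V (gen_preimage L V) hV
  have hint : ∀ z, ν z ∈ integralClosure Γ(X, V) L := fun z =>
    (mem_range_normToK (gen (X := X) L) V (gen_preimage L V) hV _).mp ⟨z, rfl⟩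
  let ν' := ν.codRestrict (integralClosure Γ(X, V) L) hint
  have hb : Function.Bijective ν' := by
    refine ⟨fun a b hab => hν (congrArg Subtype.val hab), fun y => ?_⟩
    obtain ⟨z, hz⟩ := (mem_range_normToK (gen (X := X) L) V (gen_preimage L V) hV _).mpr y.2
    exact ⟨z, Subtype.ext hz⟩
  exact Groth.Agent.Sga4B.CurveComp.isDedekindDomain_of_ringEquiv (RingEquiv.ofBijective ν'.toRingHom hb).symm

omit [AlgebraicGeometry.IsNoetherian X] [FiniteDimensional X.functionField L] in
/-- the function field of the normalization is `L` -/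
theorem exists_iso (V : X.Opens) (hV : IsAffineOpen V) [Nonempty V] :
    ∃ e : Spec ((gen (X := X) L).normalization.presheaf.stalk (genericPoint (gen (X := X) L).normalization)) ≅
        Spec (CommRingCat.of L),
      e.hom ≫ (gen (X := X) L).toNormalization =
        (gen (X := X) L).normalization.fromSpecStalk (genericPoint (gen (X := X) L).normalization) := by
  let g := gen (X := X) L
  let w := g.toNormalization
  have hw : w (IsLocalRing.closedPoint L) = genericPoint g.normalization := by
    have h1 : IsGenericPoint (w (IsLocalRing.closedPoint L)) (⊤ : Set g.normalization) := by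
      have h2 := w.denseRange
      have h3 : Set.range w = {w (IsLocalRing.closedPoint L)} := by
        ext y
        constructor
        · rintro ⟨x, rfl⟩
          rw [show x = IsLocalRing.closedPoint L from Subsingleton.elim (α := PrimeSpectrum L) _ _]
          rfl
        · rintro rfl
          exact ⟨_, rfl⟩
      rw [DenseRange, h3, dense_iff_closure_eq] at h2
      exact h2
    exact h1.eq (genericPoint_spec g.normalization)
  let ψ : g.normalization.presheaf.stalk (genericPoint g.normalization) ⟶ CommRingCat.of L :=
    g.normalization.presheaf.stalkSpecializes (specializes_of_eq hw) ≫ Scheme.stalkClosedPointTo w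
  have hψ : Spec.map ψ ≫ g.normalization.fromSpecStalk (genericPoint g.normalization) = w := by
    rw [Spec.map_comp, Category.assoc, Scheme.SpecMap_stalkSpecializes_fromSpecStalk,
      Scheme.Spec_stalkClosedPointTo_fromSpecStalk]
  have hW : genericPoint g.normalization ∈ g.fromNormalization ⁻¹ᵁ V := by
    rw [← hw]
    change (g.toNormalization ≫ g.fromNormalization) (IsLocalRing.closedPoint L) ∈ V
    rw [g.toNormalization_fromNormalization, gen_apply]
    obtain ⟨⟨z, hz⟩⟩ := ‹Nonempty V›
    exact ((genericPoint_spec X).mem_open_set_iff V.isOpen).mpr ⟨z, trivial, hz⟩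
  have hnk (b : Γ(g.normalization, g.fromNormalization ⁻¹ᵁ V)) : normToK g V (gen_preimage L V) b =
      ψ.hom (g.normalization.presheaf.germ _ _ hW b) :=
    appLE_eq_germ ψ w hψ _ hW _ b
  have hbij : Function.Bijective ψ.hom := by
    let _ : Field (g.normalization.presheaf.stalk (genericPoint g.normalization)) :=
      inferInstanceAs (Field g.normalization.functionField)
    refine ⟨ψ.hom.injective, fun x => ?_⟩
    have := functionField_isFractionRing_of_isAffineOpen X V hV
    let τ : Γ(X, V) →+* L := toK g V (gen_preimage L V)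
    let _ : Algebra Γ(X, V) L := τ.toAlgebra
    have : IsScalarTower Γ(X, V) X.functionField L := IsScalarTower.of_algebraMap_eq (toK_gen L V)
    have halg : Algebra.IsAlgebraic Γ(X, V) L :=
      (IsFractionRing.comap_isAlgebraic_iff (A := Γ(X, V)) (K := X.functionField) (C := L)).mpr inferInstance
    obtain ⟨a, ha, hax⟩ := (halg.isAlgebraic x).exists_integral_multiple
    obtain ⟨b, hb⟩ := (mem_range_normToK g V (gen_preimage L V) hV _).mpr hax
    have ha2 : normToK g V (gen_preimage L V) ((g.fromNormalization.app V).hom a) = algebraMap Γ(X, V) L a :=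
      congrArg (fun z : Γ(X, V) →+* L => z a) (normToK_comp g V (gen_preimage L V))
    have ha3 : algebraMap Γ(X, V) L a ≠ 0 := by
      rw [IsScalarTower.algebraMap_apply Γ(X, V) X.functionField L]
      intro h
      apply ha
      apply IsFractionRing.injective Γ(X, V) X.functionField
      apply (algebraMap X.functionField L).injective
      rw [h, map_zero, map_zero]
    refine ⟨g.normalization.presheaf.germ _ _ hW b /
      g.normalization.presheaf.germ _ _ hW ((g.fromNormalization.app V).hom a), ?_⟩
    rw [map_div₀]
    change ψ.hom (g.normalization.presheaf.germ _ _ hW b) /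
      ψ.hom (g.normalization.presheaf.germ _ _ hW ((g.fromNormalization.app V).hom a)) = x
    rw [← hnk, ← hnk, ha2, hb, Algebra.smul_def, mul_div_cancel_left₀ _ ha3]
  have : IsIso ψ := (ConcreteCategory.isIso_iff_bijective ψ).mpr hbij
  refine ⟨(asIso (Spec.map ψ)).symm, ?_⟩
  rw [Iso.symm_hom, asIso_inv, IsIso.inv_comp_eq]
  exact hψ.symm

end Norm

/-- **Normalization in a finite separable extension of the function field.** -/
theorem exists_galNorm (k : Type u) [Field k] (X : Scheme.{u}) [X.Over (Spec (CommRingCat.of k))] [IsIntegral X]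
    [IsProper (X ↘ Spec (CommRingCat.of k))] (hdim : topologicalKrullDim X = 1)
    (hX : ∀ x : X, ValuationRing (X.presheaf.stalk x))
    (L : Type u) [Field L] [Algebra X.functionField L] [FiniteDimensional X.functionField L]
    [Algebra.IsSeparable X.functionField L] :
    ∃ (Z : Scheme.{u}) (_ : Z.Over (Spec (CommRingCat.of k))) (_ : IsIntegral Z)
      (_ : IsProper (Z ↘ Spec (CommRingCat.of k))) (q : Z ⟶ X) (w : Spec (CommRingCat.of L) ⟶ Z)
      (e : Spec (Z.presheaf.stalk (genericPoint Z)) ≅ Spec (CommRingCat.of L)),
      topologicalKrullDim Z = 1 ∧ (∀ z : Z, ValuationRing (Z.presheaf.stalk z)) ∧ IsFinite q ∧ Surjective q ∧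
      q ≫ (X ↘ Spec (CommRingCat.of k)) = Z ↘ Spec (CommRingCat.of k) ∧
      w ≫ q = Spec.map (CommRingCat.ofHom (algebraMap X.functionField L)) ≫ X.fromSpecStalk (genericPoint X) ∧
      e.hom ≫ w = Z.fromSpecStalk (genericPoint Z) ∧
      ∀ σ : Spec (CommRingCat.of L) ⟶ Spec (CommRingCat.of L),
        σ ≫ Spec.map (CommRingCat.ofHom (algebraMap X.functionField L)) =
          Spec.map (CommRingCat.ofHom (algebraMap X.functionField L)) →
        ∃ a : Z ⟶ Z, a ≫ q = q ∧ w ≫ a = σ ≫ w := by
  have : IsLocallyNoetherian X := LocallyOfFiniteType.isLocallyNoetherian (X ↘ Spec (CommRingCat.of k))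
  have : CompactSpace X := QuasiCompact.compactSpace_of_compactSpace (X ↘ Spec (CommRingCat.of k))
  have : AlgebraicGeometry.IsNoetherian X := {}
  let g := gen (X := X) L
  have : QuasiCompact g := inferInstance
  have : QuasiSeparated g := inferInstance
  have hnorm : Pi1.IsNormalScheme X := fun x => ⟨inferInstance, by have := hX x; infer_instance⟩
  have hfin : IsFinite g.fromNormalization := isFinite_from L hnorm
  have hsur : Surjective g.fromNormalization := surjective_from L
  have hint : IsIntegral g.normalization := inferInstance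
  let ov : g.normalization.Over (Spec (CommRingCat.of k)) :=
    ⟨g.fromNormalization ≫ (X ↘ Spec (CommRingCat.of k))⟩
  have hprop : IsProper (g.normalization ↘ Spec (CommRingCat.of k)) :=
    inferInstanceAs (IsProper (g.fromNormalization ≫ (X ↘ Spec (CommRingCat.of k))))
  obtain ⟨V, hV, hxV⟩ := exists_affine (genericPoint X)
  have hVne : Nonempty V := ⟨⟨_, hxV⟩⟩
  obtain ⟨e, he⟩ := exists_iso (X := X) L V hV
  refine ⟨g.normalization, ov, hint, hprop, g.fromNormalization, g.toNormalization, e, ?_, ?_, hfin, hsur, rfl,
    g.toNormalization_fromNormalization, he, ?_⟩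
  · rw [← hdim]
    exact Groth.Agent.Sga3C.DimTop.topologicalKrullDim_eq_of_isIntegralHom g.fromNormalization
  · intro z
    obtain ⟨V, hV, hzV⟩ := exists_affine (g.fromNormalization z)
    have hVne : Nonempty V := ⟨⟨_, hzV⟩⟩
    have := isDedekind_norm L hX V hV
    exact valuationRing_stalk (hV.preimage g.fromNormalization) z hzV
  · intro σ hσ
    have hσ2 : σ ≫ g = g := by
      change σ ≫ Spec.map (CommRingCat.ofHom (algebraMap X.functionField L)) ≫ _ = _
      rw [← Category.assoc, hσ]
      rfl
    exact ⟨g.normalizationDesc (σ ≫ g.toNormalization) g.fromNormalization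
      (by rw [Category.assoc, g.toNormalization_fromNormalization, hσ2]),
      g.normalizationDesc_comp _ _ _, g.toNormalization_normalizationDesc _ _ _⟩

/-- A Galois covering of a curve with function field `L`. -/
structure GalCover (k : Type u) [Field k] (Z : Scheme.{u}) [Z.Over (Spec (CommRingCat.of k))] [IsIntegral Z]
    (L : Type u) [Field L] [Algebra Z.functionField L] where
  C : Scheme.{u}
  [ov : C.Over (Spec (CommRingCat.of k))]
  [int : IsIntegral C]
  [proper : IsProper (C ↘ Spec (CommRingCat.of k))]
  dim : topologicalKrullDim C = 1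
  val : ∀ z : C, ValuationRing (C.presheaf.stalk z)
  q : C ⟶ Z
  [fin : IsFinite q]
  [surj : Surjective q]
  [flat : Flat q]
  hq : q ≫ (Z ↘ Spec (CommRingCat.of k)) = C ↘ Spec (CommRingCat.of k)
  w : Spec (CommRingCat.of L) ⟶ C
  [dom : IsDominant w]
  e : Spec (C.presheaf.stalk (genericPoint C)) ≅ Spec (CommRingCat.of L)
  w_q : w ≫ q = Spec.map (CommRingCat.ofHom (algebraMap Z.functionField L)) ≫ Z.fromSpecStalk (genericPoint Z)
  e_w : e.hom ≫ w = C.fromSpecStalk (genericPoint C)
  aut : ∀ g : L ≃ₐ[Z.functionField] L, ∃ a : C ≅ C, a.hom ≫ q = q ∧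
    w ≫ a.hom = Spec.map (CommRingCat.ofHom (g : L →+* L)) ≫ w

attribute [instance] GalCover.ov GalCover.int GalCover.proper GalCover.fin GalCover.surj GalCover.flat
  GalCover.dom

theorem nonempty_galCover (k : Type u) [Field k] (X : Scheme.{u}) [X.Over (Spec (CommRingCat.of k))] [IsIntegral X]
    [IsProper (X ↘ Spec (CommRingCat.of k))] (hdim : topologicalKrullDim X = 1)
    (hX : ∀ x : X, ValuationRing (X.presheaf.stalk x))
    (L : Type u) [Field L] [Algebra X.functionField L] [FiniteDimensional X.functionField L]
    [Algebra.IsSeparable X.functionField L] : Nonempty (GalCover k X L) := by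
  obtain ⟨Z, _, _, _, q, w, e, h1, h2, _, _, h5, h6, h7, h8⟩ := exists_galNorm k X hdim hX L
  have hdw : IsDominant w := by
    have := isDominant_fromSpecStalk Z
    rw [← h7] at this
    exact IsDominant.of_comp e.hom w
  have hdq : IsDominant q := inferInstance
  have hfl : Flat q := FlatLift.flat_of_isDominant hX q
  have hex (g : L ≃ₐ[X.functionField] L) : ∃ a : Z ⟶ Z, a ≫ q = q ∧
      w ≫ a = Spec.map (CommRingCat.ofHom (g : L →+* L)) ≫ w := by
    refine h8 _ ?_
    rw [← Spec.map_comp, ← CommRingCat.ofHom_comp]
    congr 2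
    exact g.toAlgHom.comp_algebraMap
  have huni : ∀ a b : Z ⟶ Z, a ≫ q = q → b ≫ q = q → w ≫ a = w ≫ b → a = b := fun a b ha hb h =>
    ext_of_isDominant_of_isSeparated q (ha.trans hb.symm) w h
  refine ⟨{ C := Z, dim := h1, val := h2, q := q, hq := h5, w := w, e := e, w_q := h6, e_w := h7, aut := ?_ }⟩
  intro g
  obtain ⟨a, ha1, ha2⟩ := hex g
  obtain ⟨b, hb1, hb2⟩ := hex g.symm
  have hc (g g' : L ≃ₐ[X.functionField] L) (hg : ∀ x, g (g' x) = x) :
      Spec.map (CommRingCat.ofHom (g : L →+* L)) ≫ Spec.map (CommRingCat.ofHom (g' : L →+* L)) = 𝟙 _ := by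
    rw [← Spec.map_comp, ← Spec.map_id]
    congr 1
    ext x
    exact hg x
  refine ⟨⟨a, b, huni _ _ (by rw [Category.assoc, hb1, ha1]) (Category.id_comp _) ?_,
    huni _ _ (by rw [Category.assoc, ha1, hb1]) (Category.id_comp _) ?_⟩, ha1, ha2⟩
  · rw [reassoc_of% ha2, hb2, reassoc_of% hc g g.symm g.apply_symm_apply, Category.comp_id]
  · rw [reassoc_of% hb2, ha2, reassoc_of% hc g.symm g g.symm_apply_apply, Category.comp_id]

end K204.GalNorm
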