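import Groth.Agent.CanPar.K204.Tor
import Groth.Agent.CanPar.K204.GalNorm
import Groth.Agent.Sga3.H780.FieldPt
import Groth.Agent.Sga3.H801.AffMax

/-!
# Galois descent of parabolic subgroups on curves; the largest parabolic subgroup of maximal degree

* `exists_descent`: an invariant parabolic subgroup over a Galois covering of a curve descends;
* `star`: `CoreSplit` for nonsplit tori;
* `coreMax`: over a normal proper curve there is a largest parabolic subgroup of maximal degree.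
-/

set_option autoImplicit false
set_option maxHeartbeats 400000
universe u

open CategoryTheory CategoryTheory.Limits AlgebraicGeometry MonoidalCategory CartesianMonoidalCategory
  MonObj GrpObj

namespace K204.Desc

open Groth.Agent Groth.Agent.Sga3B Groth.Agent.Sga3B.MT Groth.Agent.RedSub.H647.SubPt
  Groth.Agent.RedSub.H647.SubF.SubClass Groth.Agent.RedSub.H660.Classes K795.ParExt K204.ParSec K204.ParSec.ParData
  Groth.Agent.RedSub.H660.Restrict K204.Tor K204.GalNorm Groth.Agent.CanPar.K795.Iface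

variable {X : Scheme.{u}} {G : Over X} [GrpObj G] {D : ParData G}

theorem isSeparated_of_proper (k : Type u) [Field k] (Z : Scheme.{u}) [Z.Over (Spec (CommRingCat.of k))]
    [IsProper (Z ↘ Spec (CommRingCat.of k))] : Z.IsSeparated := by
  rw [Scheme.isSeparated_iff, ← terminal.comp_from (Z ↘ Spec (CommRingCat.of k))]
  infer_instance

/-- extension of points of the scheme of parabolic subgroups from the generic point of a curve -/
theorem exists_extend {Z : Scheme.{u}} [IsIntegral Z] [Z.IsSeparated] (hval : ∀ z : Z, ValuationRing (Z.presheaf.stalk z))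
    (q : Z ⟶ X) (θ : Spec Z.functionField ⟶ D.M.left) (hθ : θ ≫ D.M.hom = Z.fromSpecStalk (genericPoint Z) ≫ q) :
    ∃ s : Z ⟶ D.M.left, s ≫ D.M.hom = q ∧ Z.fromSpecStalk (genericPoint Z) ≫ s = θ := by
  obtain ⟨s, h1, h2⟩ := K795.ExtSection.exists_section hval (pullback.snd D.M.hom q)
    (pullback.lift θ (Z.fromSpecStalk (genericPoint Z)) hθ) (pullback.lift_snd _ _ _)
  refine ⟨s ≫ pullback.fst D.M.hom q, ?_, ?_⟩
  · rw [Category.assoc, pullback.condition, reassoc_of% h1]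
  · rw [← Category.assoc, h2, pullback.lift_fst]

section Galois

variable {k : Type u} [Field k] {Z : Scheme.{u}} [Z.Over (Spec (CommRingCat.of k))] [IsIntegral Z]
  [IsProper (Z ↘ Spec (CommRingCat.of k))] {L : Type u} [Field L] [Algebra Z.functionField L]
  [IsGalois Z.functionField L] (V : GalCover k Z L)

/-- **Galois descent of parabolic subgroups.** -/
theorem exists_descent (hval : ∀ z : Z, ValuationRing (Z.presheaf.stalk z)) (q : Z ⟶ X)
    (φ : V.C ⟶ D.M.left) (hφ : φ ≫ D.M.hom = V.q ≫ q)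
    (hle : ∀ (a : V.C ≅ V.C) (g : L ≃ₐ[Z.functionField] L), a.hom ≫ V.q = V.q →
      V.w ≫ a.hom = Spec.map (CommRingCat.ofHom (g : L →+* L)) ≫ V.w → D.Le (a.hom ≫ φ) φ) :
    ∃ s : Z ⟶ D.M.left, s ≫ D.M.hom = q ∧ V.q ≫ s = φ := by
  have hsep := isSeparated_of_proper k Z
  have hfix (g : L ≃ₐ[Z.functionField] L) :
      Spec.map (CommRingCat.ofHom (g : L →+* L)) ≫ V.w ≫ φ = V.w ≫ φ := by
    obtain ⟨a, ha1, ha2⟩ := V.aut g
    have hs : Spec.map (CommRingCat.ofHom (g.symm : L →+* L)) ≫ Spec.map (CommRingCat.ofHom (g : L →+* L)) =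
        𝟙 _ := by
      rw [← Spec.map_comp, ← Spec.map_id]
      congr 1
      ext x
      exact g.symm_apply_apply x
    have hb1 : a.inv ≫ V.q = V.q := by rw [Iso.inv_comp_eq, ha1]
    have hb2 : V.w ≫ a.inv = Spec.map (CommRingCat.ofHom (g.symm : L →+* L)) ≫ V.w := by
      rw [Iso.comp_inv_eq, Category.assoc, ha2, reassoc_of% hs]
    have h1 := hle a g ha1 ha2
    have h2 := (hle a.symm g.symm hb1 hb2).comp a.hom
    rw [Iso.symm_hom, Iso.hom_inv_id_assoc] at h2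
    have h3 : a.hom ≫ φ = φ := Le.antisymm (by rw [Category.assoc, hφ, reassoc_of% ha1]) h1 h2
    rw [← reassoc_of% ha2, h3]
  obtain ⟨θ, hθ⟩ := Sga3.H780.FieldPt.exists_factor Z.functionField L (V.w ≫ φ) hfix
  have hfl : Flat (Spec.map (CommRingCat.ofHom (algebraMap Z.functionField L))) := by
    rw [HasRingHomProperty.Spec_iff (P := @Flat), CommRingCat.hom_ofHom, RingHom.flat_algebraMap_iff]
    infer_instance
  have hsu : Surjective (Spec.map (CommRingCat.ofHom (algebraMap Z.functionField L))) :=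
    ⟨fun x => ⟨IsLocalRing.closedPoint L, Subsingleton.elim (α := PrimeSpectrum Z.functionField) _ _⟩⟩
  have hep : Epi (Spec.map (CommRingCat.ofHom (algebraMap Z.functionField L))) :=
    Flat.epi_of_flat_of_surjective _
  have hθ2 : θ ≫ D.M.hom = Z.fromSpecStalk (genericPoint Z) ≫ q := by
    rw [← cancel_epi (Spec.map (CommRingCat.ofHom (algebraMap Z.functionField L))), reassoc_of% hθ, hφ,
      reassoc_of% V.w_q]
  obtain ⟨s, hs1, hs2⟩ := exists_extend hval q θ hθ2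
  refine ⟨s, hs1, ?_⟩
  refine ext_of_isDominant_of_isSeparated D.M.hom (by rw [Category.assoc, hs1, hφ]) V.w ?_
  rw [reassoc_of% V.w_q, hs2, hθ]

omit [IsProper (Z ↘ Spec (CommRingCat.of k))] [IsGalois Z.functionField L] in
/-- degree and the Galois action -/
theorem dg_aut (a : V.C ≅ V.C) (ha : a.hom ≫ V.q = V.q) (φ : V.C ⟶ D.M.left) :
    D.dg k (a.hom ≫ φ) = D.dg k φ :=
  dg_iso_comp k V.dim.le a (by rw [← V.hq, reassoc_of% ha]) φ

end Galois

section Kap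

variable {k : Type u} [Field k] {Z : Scheme.{u}} [Z.Over (Spec (CommRingCat.of k))] [IsIntegral Z]
  {L : Type u} [Field L] [Algebra Z.functionField L] (V : GalCover k Z L)

/-- the morphism of generic points `Spec L ⟶ Spec K(Z)` -/
noncomputable def kap0 (Z : Scheme.{u}) [IsIntegral Z] (L : Type u) [Field L] [Algebra Z.functionField L] :
    Spec (CommRingCat.of L) ⟶ Spec (Z.presheaf.stalk (genericPoint Z)) :=
  Spec.map (CommRingCat.ofHom (algebraMap Z.functionField L))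

/-- the morphism of generic points of a Galois covering -/
noncomputable def kap : Spec (V.C.presheaf.stalk (genericPoint V.C)) ⟶ Spec (Z.presheaf.stalk (genericPoint Z)) :=
  V.e.hom ≫ kap0 Z L

theorem w_q : V.w ≫ V.q = kap0 Z L ≫ gen Z := V.w_q

theorem gen_eq : gen V.C = V.e.hom ≫ V.w := V.e_w.symm

theorem gen_q : gen V.C ≫ V.q = kap V ≫ gen Z := by
  rw [gen_eq, Category.assoc, w_q, kap, Category.assoc]

theorem gal_kap0 (g : L ≃ₐ[Z.functionField] L) :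
    Spec.map (CommRingCat.ofHom (g : L →+* L)) ≫ kap0 Z L = kap0 Z L := by
  have h : Spec.map (CommRingCat.ofHom (g : L →+* L)) ≫
      Spec.map (CommRingCat.ofHom (algebraMap Z.functionField L)) =
      Spec.map (CommRingCat.ofHom (algebraMap Z.functionField L)) := by
    rw [← Spec.map_comp, ← CommRingCat.ofHom_comp]
    congr 2
    exact g.toAlgHom.comp_algebraMap
  exact h

/-- the torus `i` over the function field of `Z` is contained in the parabolic subgroup `φ` over the covering -/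
def CLe {X : Scheme.{u}} {G : Over X} [GrpObj G] (D : ParData G) {t : Spec (Z.presheaf.stalk (genericPoint Z)) ⟶ X}
    {T : Over (Spec (Z.presheaf.stalk (genericPoint Z)))} (i : T ⟶ Red.bc t G) (φ : V.C ⟶ D.M.left) : Prop :=
  ∀ (Y : Scheme.{u}) (y : Y ⟶ Spec (V.C.presheaf.stalk (genericPoint V.C))) (g : Y ⟶ G.left),
    Pt i (y ≫ kap V) g → Pt D.h (y ≫ gen V.C ≫ φ) g

variable {t : Spec (Z.presheaf.stalk (genericPoint Z)) ⟶ X}
    {T : Over (Spec (Z.presheaf.stalk (genericPoint Z)))} (i : T ⟶ Red.bc t G)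

theorem tle_iff (φ : V.C ⟶ D.M.left) : TLe D (bcSub (kap V) i) (gen V.C ≫ φ) ↔ CLe V D i φ := by
  constructor
  · intro h Y y g hp
    exact h Y y g ((pt_bcSub (kap V) i y g).2 hp)
  · intro h Y y g hp
    exact h Y y g ((pt_bcSub (kap V) i y g).1 hp)

theorem cle_aut {φ : V.C ⟶ D.M.left} (h : CLe V D i φ) (a : V.C ≅ V.C) (g : L ≃ₐ[Z.functionField] L)
    (ha2 : V.w ≫ a.hom = Spec.map (CommRingCat.ofHom (g : L →+* L)) ≫ V.w) : CLe V D i (a.hom ≫ φ) := by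
  intro Y y x hp
  have e1 : (y ≫ V.e.hom ≫ Spec.map (CommRingCat.ofHom (g : L →+* L)) ≫ V.e.inv) ≫ kap V = y ≫ kap V := by
    rw [kap, Category.assoc, Category.assoc, Category.assoc, Iso.inv_hom_id_assoc, gal_kap0]
  have h1 := h Y (y ≫ V.e.hom ≫ Spec.map (CommRingCat.ofHom (g : L →+* L)) ≫ V.e.inv) x (by
    rw [e1]
    exact hp)
  have e2 : (y ≫ V.e.hom ≫ Spec.map (CommRingCat.ofHom (g : L →+* L)) ≫ V.e.inv) ≫ gen V.C ≫ φ =
      y ≫ gen V.C ≫ a.hom ≫ φ := by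
    rw [gen_eq, Category.assoc, Category.assoc, Category.assoc, Category.assoc, Iso.inv_hom_id_assoc,
      Category.assoc, reassoc_of% ha2]
  rwa [e2] at h1

theorem cle_comp {ψ : Z ⟶ D.M.left} (h : TLe D i (gen Z ≫ ψ)) : CLe V D i (V.q ≫ ψ) := by
  intro Y y x hp
  have h1 := h Y (y ≫ kap V) x hp
  rwa [Category.assoc, ← reassoc_of% gen_q V] at h1

theorem isMaximalTorus_kap [GrpObj T] (hG : Red.IsReductive G) (hi : Red.IsMaximalTorus i) :
    Red.IsMaximalTorus (bcSub (kap V) i) :=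
  isMaximalTorus_bcSub (B := Spec (Z.presheaf.stalk (genericPoint Z)))
    (B' := Spec (V.C.presheaf.stalk (genericPoint V.C))) (t := t) hG (kap V) hi

end Kap

/-- `CoreSplit` over a covering -/
theorem star_cover (hC : CoreSplit.{u}) (k : Type u) [Field k] (Z : Scheme.{u}) [Z.Over (Spec (CommRingCat.of k))]
    [IsIntegral Z] (q : Z ⟶ X)
    {T : Over (Spec (Z.presheaf.stalk (genericPoint Z)))} [GrpObj T] (i : T ⟶ Red.bc (gen Z ≫ q) G)
    (hi : Red.IsMaximalTorus i) {L : Type u} [Field L] [Algebra Z.functionField L] (V : GalCover k Z L)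
    (M : Type) [AddCommGroup M] [Module.Finite ℤ M] [Module.Free ℤ M]
    (hM : Red.IsSplitTorusWith M (Red.bc (kap V) T)) :
    ∃ φ : V.C ⟶ D.M.left, φ ≫ D.M.hom = V.q ≫ q ∧ CLe V D i φ ∧
      ∀ ψ : V.C ⟶ D.M.left, ψ ≫ D.M.hom = V.q ≫ q → CLe V D i ψ →
        -D.dg k ψ ≤ -D.dg k φ ∧ (D.dg k ψ = D.dg k φ → D.Le ψ φ) := by
  have ht : gen V.C ≫ V.q ≫ q = kap V ≫ gen Z ≫ q := by rw [reassoc_of% gen_q V]
  have hmx : Red.IsMaximalTorus (bcSub (kap V) i) := isMaximalTorus_kap V i D.red hi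
  obtain ⟨φ, hφ1, hφ2, hφ3⟩ := core (D := D) hC k V.C V.dim V.val (V.q ≫ q) ht (Red.bc (kap V) T) (bcSub (kap V) i)
    hmx M hM
  exact ⟨φ, hφ1, (tle_iff V i φ).1 hφ2, fun ψ h1 h2 => hφ3 ψ h1 ((tle_iff V i ψ).2 h2)⟩

/-- **`CoreSplit` for arbitrary maximal tori.** -/
theorem star (hC : CoreSplit.{u}) (k : Type u) [Field k] (Z : Scheme.{u}) [Z.Over (Spec (CommRingCat.of k))]
    [IsIntegral Z] [IsProper (Z ↘ Spec (CommRingCat.of k))] (hdim : topologicalKrullDim Z = 1)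
    (hval : ∀ z : Z, ValuationRing (Z.presheaf.stalk z)) (q : Z ⟶ X)
    {T : Over (Spec (Z.presheaf.stalk (genericPoint Z)))} [GrpObj T] (i : T ⟶ Red.bc (gen Z ≫ q) G)
    (hi : Red.IsMaximalTorus i) :
    ∃ s : Z ⟶ D.M.left, s ≫ D.M.hom = q ∧ ∀ ψ : Z ⟶ D.M.left, ψ ≫ D.M.hom = q → TLe D i (gen Z ≫ ψ) →
      -D.dg k ψ ≤ -D.dg k s ∧ (D.dg k ψ = D.dg k s → D.Le ψ s) := by
  obtain ⟨L, _, _, _, _, r, hsp⟩ := exists_galois_split (K := Z.functionField) hi.2.2.1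
  obtain ⟨V⟩ := nonempty_galCover k Z hdim hval L
  have hsp' : Red.IsSplitTorusWith (Fin r → ℤ) (Red.bc (kap V) T) :=
    TorusBc.isSplitTorusWith_of_iso (BcIso.bcCompIso V.e.hom (kap0 Z L) T).symm
      (TorusAlgClosed.isSplitTorusWith_bc V.e.hom hsp)
  obtain ⟨φ, hφ1, hφ2, hφ3⟩ := star_cover (D := D) hC k Z q i hi V (Fin r → ℤ) hsp'
  obtain ⟨s, hs1, hs2⟩ := exists_descent V hval q φ hφ1 fun a g ha1 ha2 =>
    (hφ3 (a.hom ≫ φ) (by rw [Category.assoc, hφ1, reassoc_of% ha1]) (cle_aut V i hφ2 a g ha2)).2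
      (dg_aut V a ha1 φ)
  refine ⟨s, hs1, fun ψ hψ1 hψ2 => ?_⟩
  obtain ⟨c, hc, hc2⟩ := exists_dg_comp (D := D) k hdim.le V.q V.hq
  have h1 := hφ3 (V.q ≫ ψ) (by rw [Category.assoc, hψ1]) (cle_comp V i hψ2)
  rw [← hs2, hc2, hc2] at h1
  have hc3 : (0 : ℤ) < c := by exact_mod_cast hc
  exact ⟨by nlinarith [h1.1], fun h => Le.of_comp (hψ1.trans hs1.symm) V.q (h1.2 (by rw [h]))⟩

/-- maximal tori of the generic fibre -/
theorem exists_gen_torus (hG : Red.IsReductive G) {K : Type u} [Field K] (t : Spec (CommRingCat.of K) ⟶ X) :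
    ∃ (T : Over (Spec (CommRingCat.of K))) (_ : GrpObj T) (i : T ⟶ Red.bc t G), Red.IsMaximalTorus i := by
  have h := RedBcAny636.isReductive_bc t hG
  have h1 := h.1
  have h2 := h.2.1
  have : IsAffine (Red.bc t G).left := isAffine_of_isAffineHom (Red.bc t G).hom
  exact Sga3.H801.AffMax.exists_isMaximalTorus K (Red.bc t G)

/-- parabolic subgroups of maximal degree -/
theorem exists_max (hC : CoreSplit.{u}) (k : Type u) [Field k] (Z : Scheme.{u}) [Z.Over (Spec (CommRingCat.of k))]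
    [IsIntegral Z] [IsProper (Z ↘ Spec (CommRingCat.of k))] (hdim : topologicalKrullDim Z = 1)
    (hval : ∀ z : Z, ValuationRing (Z.presheaf.stalk z)) (q : Z ⟶ X) :
    ∃ s : Z ⟶ D.M.left, s ≫ D.M.hom = q ∧ ∀ ψ : Z ⟶ D.M.left, ψ ≫ D.M.hom = q → -D.dg k ψ ≤ -D.dg k s := by
  obtain ⟨T, _, i, hi⟩ := exists_gen_torus (K := Z.functionField) D.red (gen Z ≫ q)
  obtain ⟨s, hs, -⟩ := star (D := D) hC k Z hdim hval q i hi
  obtain ⟨B, hB⟩ := exists_bound (D := D) k hdim.le q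
  obtain ⟨m, ⟨φ, hφ, rfl⟩, hm⟩ := Int.exists_greatest_of_bdd
    (P := fun z => ∃ φ : Z ⟶ D.M.left, φ ≫ D.M.hom = q ∧ -D.dg k φ = z)
    ⟨B, by rintro _ ⟨φ, hφ, rfl⟩; exact hB φ hφ⟩ ⟨_, s, hs, rfl⟩
  exact ⟨φ, hφ, fun ψ hψ => hm _ ⟨ψ, hψ, rfl⟩⟩

/-- **The largest parabolic subgroup of maximal degree** over a normal proper curve. -/
theorem coreMax (hC : CoreSplit.{u}) (k : Type u) [Field k] (Z : Scheme.{u}) [Z.Over (Spec (CommRingCat.of k))]
    [IsIntegral Z] [IsProper (Z ↘ Spec (CommRingCat.of k))] (hdim : topologicalKrullDim Z = 1)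
    (hval : ∀ z : Z, ValuationRing (Z.presheaf.stalk z)) (q : Z ⟶ X) :
    ∃ s : Z ⟶ D.M.left, s ≫ D.M.hom = q ∧ ∀ ψ : Z ⟶ D.M.left, ψ ≫ D.M.hom = q →
      -D.dg k ψ ≤ -D.dg k s ∧ (D.dg k ψ = D.dg k s → D.Le ψ s) := by
  obtain ⟨φ₀, hφ₀, hmax⟩ := exists_max (D := D) hC k Z hdim hval q
  have hθ (φ : Z ⟶ D.M.left) (h : φ ≫ D.M.hom = q) : (gen Z ≫ φ) ≫ D.M.hom = gen Z ≫ q := by
    rw [Category.assoc, h]
  obtain ⟨T, _, i, hi, hT, -⟩ := exists_torus (K := Z.functionField) (t := gen Z ≫ q) (gen Z ≫ φ₀) (gen Z ≫ φ₀)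
    (hθ φ₀ hφ₀) (hθ φ₀ hφ₀)
  obtain ⟨s₁, hs₁, h₁⟩ := star (D := D) hC k Z hdim hval q i hi
  have e₁ : D.dg k φ₀ = D.dg k s₁ := by
    have a := (h₁ φ₀ hφ₀ hT).1
    have b := hmax s₁ hs₁
    omega
  have hT₁ : TLe D i (gen Z ≫ s₁) := hT.le (((h₁ φ₀ hφ₀ hT).2 e₁).comp (gen Z))
  refine ⟨s₁, hs₁, fun ψ hψ => ⟨e₁ ▸ hmax ψ hψ, fun he => ?_⟩⟩
  obtain ⟨T₂, _, i₂, hi₂, hTa, hTb⟩ := exists_torus (K := Z.functionField) (t := gen Z ≫ q) (gen Z ≫ s₁) (gen Z ≫ ψ)
    (hθ s₁ hs₁) (hθ ψ hψ)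
  obtain ⟨s₂, hs₂, h₂⟩ := star (D := D) hC k Z hdim hval q i₂ hi₂
  have e₂ : D.dg k s₁ = D.dg k s₂ := by
    have a := (h₂ s₁ hs₁ hTa).1
    have b := hmax s₂ hs₂
    omega
  have l₁ : D.Le s₁ s₂ := (h₂ s₁ hs₁ hTa).2 e₂
  have l₂ : D.Le ψ s₂ := (h₂ ψ hψ hTb).2 (he.trans e₂)
  have l₃ : D.Le s₂ s₁ := (h₁ s₂ hs₂ (hT₁.le (l₁.comp (gen Z)))).2 e₂.symm
  exact l₂.trans l₃

end K204.Desc
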