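import Groth.Agent.CanPar.K204.Fin

/-!
# Semistability and the largest parabolic subgroup under finite separable coverings (conditional on `CoreSplit`)
-/

set_option autoImplicit false
set_option maxHeartbeats 400000
universe u

open CategoryTheory CategoryTheory.Limits AlgebraicGeometry MonoidalCategory CartesianMonoidalCategory
  MonObj GrpObj

namespace K204.FinS

open Groth.Agent Groth.Agent.Sga3B Groth.Agent.Sga3B.MT Groth.Agent.RedSub.H647.SubPt
  Groth.Agent.RedSub.H647.SubF.SubClass Groth.Agent.RedSub.H660.Classes K795.ParExt K204.ParSec K204.ParSec.ParData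
  Groth.Agent.RedSub.H660.Restrict K204.Tor K204.GalNorm K204.Desc K204.Fin Groth.Agent.CanPar.K795.Iface

section

variable (hC : CoreSplit.{u}) (k : Type u) [Field k] (X Y : Scheme.{u}) [X.Over (Spec (CommRingCat.of k))]
    [Y.Over (Spec (CommRingCat.of k))]
    [IsIntegral X] [IsProper (X ↘ Spec (CommRingCat.of k))] (hval : ∀ x : X, ValuationRing (X.presheaf.stalk x))
    (hdimX : topologicalKrullDim X = 1)
    [IsIntegral Y] [IsProper (Y ↘ Spec (CommRingCat.of k))] (hvalY : ∀ y : Y, ValuationRing (Y.presheaf.stalk y))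
    (hdimY : topologicalKrullDim Y = 1)
    (p : Y ⟶ X) [IsFinite p] (hp : p ≫ (X ↘ Spec (CommRingCat.of k)) = Y ↘ Spec (CommRingCat.of k))
    (hsep : ∃ U : Y.Opens, (U : Set Y).Nonempty ∧ Etale (U.ι ≫ p))
    (G : Over X) [GrpObj G] (hG : Red.IsReductive G)

include hC hval hvalY hdimX hdimY hp hsep hG

/-- Semistability under finite separable morphisms of normal curves. -/
theorem semistable_iff' :
    (∀ (P : Over X) [GrpObj P] (i : P ⟶ G), Red.IsParabolic i →
        ∀ n : ℕ, FlatMod.IsFinLocFreeOfRank n (LieS.omega P) → 0 ≤ Curv2.deg k X (LieS.omega P) n) ↔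
    (∀ (P : Over Y) [GrpObj P] (i : P ⟶ Red.bc p G), Red.IsParabolic i →
        ∀ n : ℕ, FlatMod.IsFinLocFreeOfRank n (LieS.omega P) → 0 ≤ Curv2.deg k Y (LieS.omega P) n) := by
  obtain ⟨D⟩ := nonempty_parData hG
  obtain ⟨s, hs, h1, h2⟩ := exists_largest_over hC k hval hdimX hvalY hdimY p hp hsep D
  obtain ⟨U, hU, het⟩ := hsep
  have hdom := Sep.isDominant_of_etale p U hU het
  have hsurj : Surjective p := surjective_of_isDominant_of_isClosed_range p p.isClosedMap.isClosed_range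
  obtain ⟨c, hc, hc2⟩ := exists_dg_comp (D := D) k hdimX.le p hp
  have hc3 : (0 : ℤ) < c := by exact_mod_cast hc
  constructor
  · intro hss P _ i hi n hn
    obtain ⟨ψ, ⟨hψ1, hψ2⟩, -⟩ := existsUnique_hom_of_par D.rep p i hi
    rw [deg_eq k hi hψ1 hψ2 hn]
    obtain ⟨Ps, _, is, his, -, hds⟩ := exists_par_of_sec D s hs
    obtain ⟨m, hm, hm2⟩ := hds k
    have h3 := hss Ps is his m hm
    rw [hm2] at h3
    have h4 := (h2 ψ hψ1).1
    rw [hc2] at h4
    nlinarith
  · intro hss P _ i hi n hn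
    obtain ⟨ψ, hψ1, hψ2, hψ3⟩ := exists_sec D i hi
    rw [hψ3 k n hn]
    have e : (p ≫ ψ) ≫ D.M.hom = p := by rw [Category.assoc, hψ1, Category.comp_id]
    obtain ⟨Q, _, j, hj, hj2⟩ := exists_par_of_hom D.red D.par p (p ≫ ψ) e
    obtain ⟨m, hm⟩ := exists_omega_rank D.red hj
    have h3 := hss Q j hj m hm
    rw [deg_eq k hj e hj2 hm, hc2] at h3
    exact nonneg_of_mul_nonneg_right h3 hc3

/-- The largest parabolic subgroup of maximal degree is compatible with finite separable morphisms of normal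
curves. -/
theorem largest_pullback' (P : Over X) [GrpObj P] (i : P ⟶ G) (hP : Red.IsParabolic i) (n : ℕ)
    (hn : FlatMod.IsFinLocFreeOfRank n (LieS.omega P))
    (hmax : ∀ (Q : Over X) [GrpObj Q] (j : Q ⟶ G), Red.IsParabolic j →
        ∀ m : ℕ, FlatMod.IsFinLocFreeOfRank m (LieS.omega Q) →
          -Curv2.deg k X (LieS.omega Q) m ≤ -Curv2.deg k X (LieS.omega P) n ∧
          (Curv2.deg k X (LieS.omega Q) m = Curv2.deg k X (LieS.omega P) n → ∃ f : Q ⟶ P, f ≫ i = j)) :
    ∀ n' : ℕ, FlatMod.IsFinLocFreeOfRank n' (LieS.omega (Red.bc p P)) →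
      ∀ (Q' : Over Y) [GrpObj Q'] (j' : Q' ⟶ Red.bc p G), Red.IsParabolic j' →
        ∀ m' : ℕ, FlatMod.IsFinLocFreeOfRank m' (LieS.omega Q') →
          -Curv2.deg k Y (LieS.omega Q') m' ≤ -Curv2.deg k Y (LieS.omega (Red.bc p P)) n' ∧
          (Curv2.deg k Y (LieS.omega Q') m' = Curv2.deg k Y (LieS.omega (Red.bc p P)) n' → ∃ f : Q' ⟶ (Red.bc p P), f ≫ (Over.pullback p).map i = j') := by
  obtain ⟨D⟩ := nonempty_parData hG
  obtain ⟨s, hs, h1, h2⟩ := exists_largest_over hC k hval hdimX hvalY hdimY p hp hsep D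
  obtain ⟨φ, hφ1, hφ2, hφ3⟩ := exists_sec D i hP
  obtain ⟨Ps, _, is, his, hps, hds⟩ := exists_par_of_sec D s hs
  obtain ⟨m, hm, hm2⟩ := hds k
  have h3 := hmax Ps is his m hm
  rw [hm2, hφ3 k n hn] at h3
  have h4 := h1 φ hφ1
  have he : D.dg k φ = D.dg k s := by
    have := h3.1
    have := h4.1
    omega
  have l1 : D.Le φ s := h4.2 he
  have l2 : D.Le s φ := by
    obtain ⟨f, hf⟩ := h3.2 he.symm
    intro Z y g hh
    have e : y = g ≫ G.hom := by
      have := hh.w
      rwa [Category.assoc, hs, Category.comp_id] at this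
    subst e
    rw [Category.assoc] at hh ⊢
    rw [← hφ2]
    rw [← hps] at hh
    obtain ⟨x, rfl⟩ := hh
    refine ⟨x ≫ f.left, ?_⟩
    rw [← hf, Over.comp_left, Category.assoc]
  have hsφ : φ = s := Le.antisymm (hφ1.trans hs.symm) l1 l2
  subst hsφ
  intro n' hn' Q' _ j' hj' m' hm'
  obtain ⟨ψ, ⟨hψ1, hψ2⟩, -⟩ := existsUnique_hom_of_par D.rep p j' hj'
  have hbP : Red.IsParabolic ((Over.pullback p).map i) := good_isParabolic.bc p hG hP
  have hof : D.Of ((Over.pullback p).map i) (p ≫ φ) := fun Z y g => by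
    rw [pt_pullback, hφ2]
    constructor
    · rintro ⟨a, b⟩
      rw [← Category.assoc, b, Category.assoc]
      exact a
    · intro a
      have b : y ≫ p = g ≫ G.hom := by
        have := a.w
        rwa [Category.assoc, Category.assoc, hφ1, Category.comp_id] at this
      refine ⟨?_, b⟩
      rw [← Category.assoc, ← b, Category.assoc]
      exact a
  rw [deg_eq k hj' hψ1 hψ2 hm', deg_eq k hbP (by rw [Category.assoc, hφ1, Category.comp_id]) hof hn']
  refine ⟨(h2 ψ hψ1).1, fun he => exists_fac_of_pt j' _ fun Z y g h => ?_⟩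
  rw [hof]
  rw [hψ2] at h
  exact (h2 ψ hψ1).2 he Z y g h

end

section Smooth

variable (hC : CoreSplit.{u}) (k : Type u) [Field k] (X Y : Scheme.{u}) [X.Over (Spec (CommRingCat.of k))]
    [Y.Over (Spec (CommRingCat.of k))]
    [IsIntegral X] [IsProper (X ↘ Spec (CommRingCat.of k))] [Smooth (X ↘ Spec (CommRingCat.of k))]
    (hdimX : topologicalKrullDim X = 1)
    [IsIntegral Y] [IsProper (Y ↘ Spec (CommRingCat.of k))] [Smooth (Y ↘ Spec (CommRingCat.of k))]
    (hdimY : topologicalKrullDim Y = 1)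
    (p : Y ⟶ X) [IsFinite p] (hp : p ≫ (X ↘ Spec (CommRingCat.of k)) = Y ↘ Spec (CommRingCat.of k))
    (hsep : ∃ U : Y.Opens, (U : Set Y).Nonempty ∧ Etale (U.ι ≫ p))
    (G : Over X) [GrpObj G] (hG : Red.IsReductive G)

include hC hdimX hdimY hp hsep hG

/-- **S13766**, conditional on `CoreSplit`. -/
theorem semistable_iff :
    (∀ (P : Over X) [GrpObj P] (i : P ⟶ G), Red.IsParabolic i →
        ∀ n : ℕ, FlatMod.IsFinLocFreeOfRank n (LieS.omega P) → 0 ≤ Curv2.deg k X (LieS.omega P) n) ↔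
    (∀ (P : Over Y) [GrpObj P] (i : P ⟶ Red.bc p G), Red.IsParabolic i →
        ∀ n : ℕ, FlatMod.IsFinLocFreeOfRank n (LieS.omega P) → 0 ≤ Curv2.deg k Y (LieS.omega P) n) :=
  semistable_iff' hC k X Y (valuationRing_stalk k X hdimX) hdimX (valuationRing_stalk k Y hdimY) hdimY p hp hsep G hG

/-- **S13768**, conditional on `CoreSplit`. -/
theorem largest_pullback (P : Over X) [GrpObj P] (i : P ⟶ G) (hP : Red.IsParabolic i) (n : ℕ)
    (hn : FlatMod.IsFinLocFreeOfRank n (LieS.omega P))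
    (hmax : ∀ (Q : Over X) [GrpObj Q] (j : Q ⟶ G), Red.IsParabolic j →
        ∀ m : ℕ, FlatMod.IsFinLocFreeOfRank m (LieS.omega Q) →
          -Curv2.deg k X (LieS.omega Q) m ≤ -Curv2.deg k X (LieS.omega P) n ∧
          (Curv2.deg k X (LieS.omega Q) m = Curv2.deg k X (LieS.omega P) n → ∃ f : Q ⟶ P, f ≫ i = j)) :
    ∀ n' : ℕ, FlatMod.IsFinLocFreeOfRank n' (LieS.omega (Red.bc p P)) →
      ∀ (Q' : Over Y) [GrpObj Q'] (j' : Q' ⟶ Red.bc p G), Red.IsParabolic j' →
        ∀ m' : ℕ, FlatMod.IsFinLocFreeOfRank m' (LieS.omega Q') →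
          -Curv2.deg k Y (LieS.omega Q') m' ≤ -Curv2.deg k Y (LieS.omega (Red.bc p P)) n' ∧
          (Curv2.deg k Y (LieS.omega Q') m' = Curv2.deg k Y (LieS.omega (Red.bc p P)) n' → ∃ f : Q' ⟶ (Red.bc p P), f ≫ (Over.pullback p).map i = j') :=
  largest_pullback' hC k X Y (valuationRing_stalk k X hdimX) hdimX (valuationRing_stalk k Y hdimY) hdimY p hp hsep
    G hG P i hP n hn hmax

end Smooth

end K204.FinS
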