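import Groth.Agent.CanPar.K169.DegLat
import Groth.Agent.CanPar.K795.Iface2
import Groth.Agent.CanPar.K795.VbLin

/-!
# The numerical step

Proof of the interface `Num` of `Groth.Agent.CanPar.K795.Iface2`: `K204.Num.num`.
-/

set_option autoImplicit false
universe u

open CategoryTheory CategoryTheory.Limits AlgebraicGeometry TopologicalSpace Opposite Module

namespace K204.Num

open Groth.Agent Groth.Agent.CycB.StalkExact Groth.Agent.CycB.DegIntegral
open Groth.Agent.Sga67.Sec Groth.Agent.Sga67.LocBasis Groth.Agent.Sga67.LocBasisStalk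
open Groth.Agent.Krr.H487.LocBasisPull K321.LatLoc K321.LatRoof
open Groth.Agent.CanPar.K795.Iface Groth.Agent.CanPar.K795 K169.DegLat

/-- the order as a homomorphism -/
noncomputable def ordHom (R K : Type u) [CommRing R] [Field K] [Algebra R K] : Kˣ →* Multiplicative ℤ where
  toFun a := Multiplicative.ofAdd (CycAlg.ordFrac R K a)
  map_one' := by
    rw [Units.val_one, CycB.OrdFrac.ordFrac_one]
    rfl
  map_mul' a b := by
    rw [← ofAdd_add, Units.val_mul, CycB.OrdFrac.ordFrac_mul _ _ a.ne_zero b.ne_zero]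

theorem ordHom_nonneg {R K : Type u} [CommRing R] [IsDomain R] [IsNoetherianRing R] [Ring.KrullDimLE 1 R] [Field K]
    [Algebra R K] [IsFractionRing R K] (a : Kˣ) (ha : (a : K) ∈ Set.range (algebraMap R K)) :
    0 ≤ (ordHom R K a).toAdd := by
  obtain ⟨r, hr⟩ := ha
  change 0 ≤ CycAlg.ordFrac R K (a : K)
  have hr0 : r ≠ 0 := by
    rintro rfl
    exact a.ne_zero (by rw [← hr, map_zero])
  rw [← hr, CycB.OrdFrac.ordFrac_algebraMap' _ _ hr0]
  exact Int.natCast_nonneg _

section Local

variable {K L : Type u} [Field K] [Field L] [Algebra K L] {A : ValuationSubring L} {n J : Type}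
  [Fintype n] [DecidableEq n] {v : Kˣ →* Multiplicative ℤ} {vb : Lˣ →* Multiplicative ℝ}

/-- the determinant of a lattice: inequality -/
theorem loc_le (hvb : ∀ y : Lˣ, (y : L) ∈ A → 0 ≤ (vb y).toAdd)
    (hv : ∀ a : Kˣ, (vb (Units.map (algebraMap K L : K →* L) a)).toAdd = ((v a).toAdd : ℝ))
    (F : Matrix n n K) (a : Kˣ) (ha : (a : K) = F.det) (Q : Matrix J J L) (f : n → J) (D : Lˣ)
    (hD : (D : L) = (Q.submatrix f f).det)
    (H : ∀ c : n → L, (∀ i, ((F.map (algebraMap K L)).transpose.mulVec c i ∈ A)) →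
      ∀ j, (Q.submatrix id f).mulVec c j ∈ A) :
    ((v a).toAdd : ℝ) ≤ (vb D).toAdd := by
  have hdet : (F.map (algebraMap K L)).transpose.det = algebraMap K L a := by
    rw [Matrix.det_transpose, ha, ← RingHom.mapMatrix_apply, ← RingHom.map_det]
  have h0 : (F.map (algebraMap K L)).transpose.det ≠ 0 := by
    rw [hdet]
    exact (map_ne_zero _).mpr a.ne_zero
  have h1 := VbLin.lin_le h0 H
  rw [hdet, ← hD] at h1
  have h2 := hvb (D * (Units.map (algebraMap K L : K →* L) a)⁻¹) (by
    rw [Units.val_mul, Units.val_inv_eq_inv_val]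
    exact h1)
  rw [map_mul, map_inv, toAdd_mul, toAdd_inv, hv] at h2
  linarith

/-- the determinant of a lattice: equality -/
theorem loc_ge (hvb : ∀ y : Lˣ, (y : L) ∈ A → 0 ≤ (vb y).toAdd)
    (hv : ∀ a : Kˣ, (vb (Units.map (algebraMap K L : K →* L) a)).toAdd = ((v a).toAdd : ℝ))
    (F : Matrix n n K) (a : Kˣ) (ha : (a : K) = F.det) (Q : Matrix J J L) (f : n → J) (D : Lˣ)
    (hD : (D : L) = (Q.submatrix f f).det)
    (H : ∀ c : n → L, (∀ j, (Q.submatrix id f).mulVec c j ∈ A) →
      ∀ i, ((F.map (algebraMap K L)).transpose.mulVec c i ∈ A))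
    (h0 : ∀ j, j ∉ Set.range f → ∀ i, Q j (f i) = 0) :
    (vb D).toAdd ≤ ((v a).toAdd : ℝ) := by
  have hdet : (F.map (algebraMap K L)).transpose.det = algebraMap K L a := by
    rw [Matrix.det_transpose, ha, ← RingHom.mapMatrix_apply, ← RingHom.map_det]
  have hD0 : (Q.submatrix f f).det ≠ 0 := by
    rw [← hD]
    exact D.ne_zero
  have h1 := VbLin.lin_ge hD0 H h0
  rw [hdet, ← hD] at h1
  have h2 := hvb ((Units.map (algebraMap K L : K →* L) a) * D⁻¹) (by
    rw [Units.val_mul, Units.val_inv_eq_inv_val]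
    exact h1)
  rw [map_mul, map_inv, toAdd_mul, toAdd_inv, hv] at h2
  linarith

end Local

section Sch

variable {X : Scheme.{u}} [IsIntegral X]

/-- the dual lattice through a basis of the stalk -/
theorem dual_iff {E : X.Modules} {x : X} {n : ℕ} {L : Type u} [Field L]
    [Algebra (X.presheaf.stalk (genericPoint X)) L] {A : ValuationSubring L}
    (hA : ∀ r : X.presheaf.stalk x,
      algebraMap (X.presheaf.stalk (genericPoint X)) L (algebraMap (X.presheaf.stalk x) X.functionField r) ∈ A)
    (β : Basis (Fin n) (X.presheaf.stalk (genericPoint X)) (E.presheaf.stalk (genericPoint X)))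
    (b : Basis (Fin n) (X.presheaf.stalk x) (E.presheaf.stalk x)) (c : Fin n → L) :
    (∀ m : E.presheaf.stalk x, ∑ j, algebraMap (X.presheaf.stalk (genericPoint X)) L (β.repr (spe E x m) j) *
      c j ∈ A) ↔
    ∀ i, ((β.toMatrix fun j => spe E x (b j)).map
      (algebraMap (X.presheaf.stalk (genericPoint X)) L)).transpose.mulVec c i ∈ A := by
  constructor
  · intro h i
    exact h (b i)
  · intro h m
    have h1 : spe E x m = ∑ i, algebraMap (X.presheaf.stalk x) X.functionField (b.repr m i) • spe E x (b i) := by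
      conv_lhs => rw [← b.sum_repr m]
      rw [spe_sum]
      exact Finset.sum_congr rfl fun i _ => spe_smul _ _
    have h2 : ∀ j, β.repr (spe E x m) j =
        ∑ i, algebraMap (X.presheaf.stalk x) X.functionField (b.repr m i) * β.repr (spe E x (b i)) j := by
      intro j
      rw [h1, map_sum, Finsupp.finsetSum_apply]
      refine Finset.sum_congr rfl fun i _ => ?_
      rw [map_smul, Finsupp.smul_apply, smul_eq_mul]
    have h3 : ∑ j, algebraMap (X.presheaf.stalk (genericPoint X)) L (β.repr (spe E x m) j) * c j =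
        ∑ i, algebraMap (X.presheaf.stalk (genericPoint X)) L
          (algebraMap (X.presheaf.stalk x) X.functionField (b.repr m i)) *
          ((β.toMatrix fun j => spe E x (b j)).map
            (algebraMap (X.presheaf.stalk (genericPoint X)) L)).transpose.mulVec c i := by
      have h4 : ∀ i, ((β.toMatrix fun j => spe E x (b j)).map
            (algebraMap (X.presheaf.stalk (genericPoint X)) L)).transpose.mulVec c i =
          ∑ j, algebraMap (X.presheaf.stalk (genericPoint X)) L (β.repr (spe E x (b i)) j) * c j := fun i => rfl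
      simp only [h4, h2, map_sum, map_mul, Finset.sum_mul, Finset.mul_sum]
      rw [Finset.sum_comm]
      refine Finset.sum_congr rfl fun i _ => Finset.sum_congr rfl fun j _ => ?_
      ring
    rw [h3]
    exact sum_mem fun i _ => mul_mem (hA _) (h i)

/-- degree formula -/
theorem deg_eq (k : Type u) [Field k] [X.Over (Spec (CommRingCat.of k))]
    [IsProper (X ↘ Spec (CommRingCat.of k))] (hdim : topologicalKrullDim X = 1)
    (hX : ∀ x : X, IsPrincipalIdealRing (X.presheaf.stalk x)) (n : ℕ) (E : X.Modules)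
    (hE : FlatMod.IsFinLocFreeOfRank n E)
    (β : Basis (Fin n) (X.presheaf.stalk (genericPoint X)) (E.presheaf.stalk (genericPoint X)))
    (m : ∀ x : X, Basis (Fin n) (X.presheaf.stalk x) (E.presheaf.stalk x)) :
    ∃ T : Finset X, genericPoint X ∉ T ∧ ∀ S : Finset X, T ⊆ S → genericPoint X ∉ S →
      Curv2.deg k X E n = - ∑ x ∈ S, ((X ↘ Spec (CommRingCat.of k)).residueDegree x : ℤ) *
        CycAlg.ordFrac (X.presheaf.stalk x) X.functionField (β.toMatrix fun j => spe E x (m x j)).det := by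
  classical
  obtain ⟨hcl, hncl, -⟩ := K321.LatSum.points k X hdim
  choose γ hγ using fun x => exists_locAt' hE x
  obtain ⟨hfin, hsum⟩ := K321.LatSum.euler_eq k hdim hX hE β γ hγ
  have hord : ∀ x, CycAlg.ordFrac (X.presheaf.stalk x) X.functionField ((γ x).toMatrix β).det =
      - CycAlg.ordFrac (X.presheaf.stalk x) X.functionField (β.toMatrix fun j => spe E x (m x j)).det := by
    intro x
    have := hX x
    exact ordFrac_toMatrix (hγ x) β (m x)
  refine ⟨hfin.toFinset.erase (genericPoint X), Finset.notMem_erase _ _, fun S hTS hηS => ?_⟩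
  unfold Curv2.deg
  rw [hsum, finsum_mem_eq_sum_of_inter_support_eq (t := S)]
  · rw [← Finset.sum_neg_distrib]
    refine Finset.sum_congr rfl fun x _ => ?_
    rw [hord]
    ring
  · ext x
    constructor
    · rintro ⟨hx, hx'⟩
      refine ⟨?_, hx'⟩
      have hne : x ≠ genericPoint X := fun h => hncl (h ▸ hx)
      refine hTS (Finset.mem_erase.mpr ⟨hne, ?_⟩)
      rw [Set.Finite.mem_toFinset]
      exact right_ne_zero_of_mul hx'
    · rintro ⟨hx, hx'⟩
      exact ⟨hcl x (fun h => hηS (h ▸ hx)), hx'⟩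

/-- the determinant of a lattice does not vanish -/
theorem det_ne_zero {E : X.Modules} {x : X} {n : ℕ} (hE : FlatMod.IsFinLocFreeOfRank n E)
    (β : Basis (Fin n) (X.presheaf.stalk (genericPoint X)) (E.presheaf.stalk (genericPoint X)))
    (m : Basis (Fin n) (X.presheaf.stalk x) (E.presheaf.stalk x)) :
    (β.toMatrix fun j => spe E x (m j)).det ≠ 0 := by
  obtain ⟨γ, hγ⟩ := exists_locAt' hE x
  obtain ⟨b, hb⟩ := exists_stalk hγ
  have h1 : γ.toMatrix β * β.toMatrix (fun j => spe E x (m j)) = γ.toMatrix (fun j => spe E x (m j)) :=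
    Basis.toMatrix_mul_toMatrix _ _ _
  have h2 := congrArg Matrix.det h1
  rw [Matrix.det_mul, toMatrix_spe γ b hb m] at h2
  have hu : IsUnit (b.toMatrix m).det := by
    have h3 : b.toMatrix m * m.toMatrix b = 1 := Basis.toMatrix_mul_toMatrix_flip _ _
    exact IsUnit.of_mul_eq_one _ (by rw [← Matrix.det_mul, h3, Matrix.det_one])
  have h4 : ((algebraMap (X.presheaf.stalk x) X.functionField).mapMatrix (b.toMatrix m)).det =
      algebraMap (X.presheaf.stalk x) X.functionField (b.toMatrix m).det := by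
    rw [RingHom.map_det]
  rw [h4] at h2
  have h5 : algebraMap (X.presheaf.stalk x) X.functionField (b.toMatrix m).det ≠ 0 :=
    (hu.map (algebraMap (X.presheaf.stalk x) X.functionField)).ne_zero
  exact fun h => h5 (by rw [← h2, h, mul_zero])

/-- the comparison at one point -/
theorem pt_le {E : X.Modules} {x : X} {n : ℕ} (hE : FlatMod.IsFinLocFreeOfRank n E) {L : Type u} [Field L]
    [Algebra (X.presheaf.stalk (genericPoint X)) L] {A : ValuationSubring L}
    (hA : ∀ r : X.presheaf.stalk x,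
      algebraMap (X.presheaf.stalk (genericPoint X)) L (algebraMap (X.presheaf.stalk x) X.functionField r) ∈ A)
    {vb : Lˣ →* Multiplicative ℝ}
    (hvb : ∀ y : Lˣ, (y : L) ∈ A → 0 ≤ (vb y).toAdd)
    (hv : ∀ a : X.functionFieldˣ, (vb (Units.map (algebraMap X.functionField L : X.functionField →* L) a)).toAdd =
      ((ordHom (X.presheaf.stalk x) X.functionField a).toAdd : ℝ))
    (β : Basis (Fin n) (X.presheaf.stalk (genericPoint X)) (E.presheaf.stalk (genericPoint X)))
    (b : Basis (Fin n) (X.presheaf.stalk x) (E.presheaf.stalk x)) {J : Type} (Q : Matrix J J L) (f : Fin n → J)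
    (D : Lˣ) (hD : (D : L) = (Q.submatrix f f).det)
    (H : ∀ c : Fin n → L,
      (∀ m : E.presheaf.stalk x, ∑ j, algebraMap (X.presheaf.stalk (genericPoint X)) L (β.repr (spe E x m) j) *
        c j ∈ A) ↔ ∀ i, ∑ j, Q i (f j) * c j ∈ A) :
    (CycAlg.ordFrac (X.presheaf.stalk x) X.functionField (β.toMatrix fun j => spe E x (b j)).det : ℝ) ≤
      (vb D).toAdd ∧
    ((∀ j, j ∉ Set.range f → ∀ i, Q j (f i) = 0) →
      (CycAlg.ordFrac (X.presheaf.stalk x) X.functionField (β.toMatrix fun j => spe E x (b j)).det : ℝ) =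
      (vb D).toAdd) := by
  have H' : ∀ c : Fin n → L, (∀ i, ((β.toMatrix fun j => spe E x (b j)).map
      (algebraMap (X.presheaf.stalk (genericPoint X)) L)).transpose.mulVec c i ∈ A) ↔
      ∀ j, (Q.submatrix id f).mulVec c j ∈ A := fun c =>
    (dual_iff hA β b c).symm.trans (H c)
  have hle := loc_le (K := X.functionField) hvb hv (β.toMatrix fun j => spe E x (b j))
    (Units.mk0 _ (det_ne_zero hE β b)) rfl Q f D hD fun c => (H' c).mp
  refine ⟨hle, fun h0 => le_antisymm hle ?_⟩
  exact loc_ge (K := X.functionField) hvb hv (β.toMatrix fun j => spe E x (b j))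
    (Units.mk0 _ (det_ne_zero hE β b)) rfl Q f D hD (fun c => (H' c).mpr) h0

end Sch

open scoped Classical in
theorem num : Num.{u} := by
  intro k _ Z _ _ _ hdim hval L _ _ _ O hO J M _ _ _ w χ q hq hE₀
  have hLN : IsLocallyNoetherian Z := LocallyOfFiniteType.isLocallyNoetherian (Z ↘ Spec (CommRingCat.of k))
  have hX : ∀ x : Z, IsPrincipalIdealRing (Z.presheaf.stalk x) := fun x => by
    have := hval x
    have hN : IsNoetherianRing (Z.presheaf.stalk x) := inferInstance
    exact ((IsBezout.TFAE (R := Z.presheaf.stalk x)).out 0 1).mp hN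
  obtain ⟨E₀, m₀, hE₀, β₀, H₀⟩ := hE₀
  have hA : ∀ z : Z, z ≠ genericPoint Z → ∀ r : Z.presheaf.stalk z,
      algebraMap (Z.presheaf.stalk (genericPoint Z)) L (algebraMap (Z.presheaf.stalk z) Z.functionField r) ∈ O z :=
    fun z hz r => (hO z hz _).mpr ⟨r, rfl⟩
  have hvbex : ∀ z : Z, ∃ vb : Lˣ →* Multiplicative ℝ, z ≠ genericPoint Z →
      ((∀ y : Lˣ, (y : L) ∈ O z → 0 ≤ (vb y).toAdd) ∧
      ∀ a : Z.functionFieldˣ, (vb (Units.map (algebraMap Z.functionField L : Z.functionField →* L) a)).toAdd =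
        ((ordHom (Z.presheaf.stalk z) Z.functionField a).toAdd : ℝ)) := by
    intro z
    by_cases hz : z = genericPoint Z
    · exact ⟨1, fun h => absurd hz h⟩
    · have := hX z
      obtain ⟨vb, h1, h2⟩ := VbLin.exists_vbar (K := Z.functionField) (L := L) (O z)
        (ordHom (Z.presheaf.stalk z) Z.functionField) (fun a ha => ordHom_nonneg a ((hO z hz _).mp ha))
      exact ⟨vb, fun _ => ⟨h1, h2⟩⟩
  choose vb hvb using hvbex
  -- the reference bundle
  have hrel : ∀ (n : ℕ) (E : Z.Modules) (hE : FlatMod.IsFinLocFreeOfRank n E) (I : Type) (_ : Fintype I)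
      (β : Basis I (Z.presheaf.stalk (genericPoint Z)) (E.presheaf.stalk (genericPoint Z))) (g : I → J)
      (_ : ∀ z, z ≠ genericPoint Z → ∀ c : I → L,
        (∀ m : E.presheaf.stalk z, ∑ j, algebraMap (Z.presheaf.stalk (genericPoint Z)) L (β.repr (spe E z m) j) *
          c j ∈ O z) ↔ ∀ i : J, ∑ j : I, q z i (g j) * c j ∈ O z) (e : I ≃ Fin n), 
      ∀ z, z ≠ genericPoint Z → ∀ c : Fin n → L,
        (∀ m : E.presheaf.stalk z, ∑ j, algebraMap (Z.presheaf.stalk (genericPoint Z)) L
          ((β.reindex e).repr (spe E z m) j) * c j ∈ O z) ↔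
        ∀ i : J, ∑ j : Fin n, q z i (g (e.symm j)) * c j ∈ O z := by
    intro n E hE I _ β g H e z hz c
    have h1 := H z hz (fun i => c (e i))
    have h2 : ∀ m : E.presheaf.stalk z, ∑ j, algebraMap (Z.presheaf.stalk (genericPoint Z)) L
        ((β.reindex e).repr (spe E z m) j) * c j =
        ∑ j, algebraMap (Z.presheaf.stalk (genericPoint Z)) L (β.repr (spe E z m) j) * c (e j) := by
      intro m
      rw [← Equiv.sum_comp e]
      refine Finset.sum_congr rfl fun j _ => ?_
      rw [Basis.repr_reindex_apply, Equiv.symm_apply_apply]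
    have h3 : ∀ i : J, ∑ j : Fin n, q z i (g (e.symm j)) * c j = ∑ j : I, q z i (g j) * c (e j) := by
      intro i
      rw [← Equiv.sum_comp e]
      refine Finset.sum_congr rfl fun j _ => ?_
      rw [Equiv.symm_apply_apply]
    simp only [h2, h3]
    exact h1
  obtain ⟨γ₀, hγ₀⟩ := exists_locAt' hE₀ (genericPoint Z)
  let e₀ : J ≃ Fin m₀ := β₀.indexEquiv γ₀
  obtain ⟨S₀, hηS₀, hS₀⟩ := stdFinset k Z hdim m₀ E₀ hE₀ (β₀.reindex e₀)
  have hunit : ∀ z, z ≠ genericPoint Z → z ∉ S₀ → ∀ j, (vb z (χ z (Multiplicative.ofAdd (w j)))).toAdd = 0 := by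
    intro z hz hzS
    obtain ⟨b, hb⟩ := hS₀ z hz hzS
    have hinj : Function.Injective e₀.symm := e₀.symm.injective
    have hb' : (fun j => spe E₀ z (b j)) = β₀.reindex e₀ := funext hb
    have h1 := pt_le hE₀ (hA z hz) (hvb z hz).1 (hvb z hz).2 (β₀.reindex e₀) b (q z) e₀.symm
      (∏ j, χ z (Multiplicative.ofAdd (w (e₀.symm j)))) (by
        rw [hq z _ _ hinj, Units.coe_prod]) (hrel m₀ E₀ hE₀ J inferInstance β₀ id H₀ e₀ z hz)
    rw [hb', Basis.toMatrix_self, Matrix.det_one, CycB.OrdFrac.ordFrac_one] at h1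
    have h2 := h1.2 (fun j hj => absurd (e₀.symm.surjective j) hj)
    rw [map_prod, toAdd_prod, Equiv.sum_comp e₀.symm (fun j => (vb z (χ z (Multiplicative.ofAdd (w j)))).toAdd)] at h2
    have h3 : ∀ j, 0 ≤ (vb z (χ z (Multiplicative.ofAdd (w j)))).toAdd := by
      intro j
      apply (hvb z hz).1
      have h4 := hq z Unit (fun _ => j) (Function.injective_of_subsingleton _)
      rw [Matrix.det_unique, Fintype.prod_unique] at h4
      rw [← h4, Matrix.submatrix_apply]
      have h5 := (hrel m₀ E₀ hE₀ J inferInstance β₀ id H₀ e₀ z hz (Pi.single (e₀ j) 1)).mp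
        ((dual_iff (hA z hz) (β₀.reindex e₀) b (Pi.single (e₀ j) 1)).mpr fun i => by
          rw [hb', Basis.toMatrix_self, Matrix.map_one _ (map_zero _) (map_one _), Matrix.transpose_one,
            Matrix.one_mulVec, Pi.single_apply]
          split_ifs
          · exact (O z).one_mem
          · exact (O z).zero_mem) j
      rw [Finset.sum_eq_single (e₀ j) (fun l _ hl => by rw [Pi.single_eq_of_ne hl, mul_zero])
        (fun h => absurd (Finset.mem_univ _) h), Pi.single_eq_same, mul_one, Equiv.symm_apply_apply] at h5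
      exact h5
    have h7 : ∑ j, (vb z (χ z (Multiplicative.ofAdd (w j)))).toAdd = 0 := by
      rw [← h2]
      norm_num
    exact fun j => (Finset.sum_eq_zero_iff_of_nonneg fun j _ => h3 j).mp h7 j (Finset.mem_univ j)
  let d : M →+ ℝ :=
    { toFun := fun x => ∑ z ∈ S₀, ((Z ↘ Spec (CommRingCat.of k)).residueDegree z : ℝ) *
        (vb z (χ z (Multiplicative.ofAdd x))).toAdd
      map_zero' := by
        refine Finset.sum_eq_zero fun z _ => ?_
        rw [ofAdd_zero, map_one, map_one, toAdd_one, mul_zero]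
      map_add' := fun x y => by
        rw [← Finset.sum_add_distrib]
        refine Finset.sum_congr rfl fun z _ => ?_
        rw [ofAdd_add, map_mul, map_mul, toAdd_mul, mul_add] }
  refine ⟨d, fun I n E hE β H => ?_⟩
  choose γ hγ using fun x => exists_locAt' hE x
  choose m hm using fun x => exists_stalk (hγ x)
  let e : I ≃ Fin n := β.indexEquiv (γ (genericPoint Z))
  let f : Fin n → J := fun j => (e.symm j : J)
  have hf : Function.Injective f := Subtype.val_injective.comp e.symm.injective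
  obtain ⟨T, hηT, hT⟩ := deg_eq k hdim hX n E hE (β.reindex e) m
  have hsum : ∀ {N : Type} [AddCommMonoid N] (g : J → N), ∑ j ∈ I, g j = ∑ j : Fin n, g (f j) := by
    intro N _ g
    rw [← Finset.sum_coe_sort, ← Equiv.sum_comp e.symm]
  have hηS : genericPoint Z ∉ T ∪ S₀ := by
    rw [Finset.mem_union]
    rintro (h | h)
    · exact hηT h
    · exact hηS₀ h
  have hdeg := hT (T ∪ S₀) Finset.subset_union_left hηS
  have hD : ∀ z, ((χ z (Multiplicative.ofAdd (∑ j ∈ I, w j)) : Lˣ) : L) = ((q z).submatrix f f).det := by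
    intro z
    rw [hq z (Fin n) f hf, hsum, ofAdd_sum, map_prod, Units.coe_prod]
  have hpt := fun z (hz : z ≠ genericPoint Z) => pt_le hE (hA z hz) (hvb z hz).1 (hvb z hz).2 (β.reindex e) (m z)
    (q z) f _ (hD z) (hrel n E hE I inferInstance β (fun i => (i : J)) H e z hz)
  have hd : d (∑ j ∈ I, w j) = ∑ z ∈ T ∪ S₀, ((Z ↘ Spec (CommRingCat.of k)).residueDegree z : ℝ) *
      (vb z (χ z (Multiplicative.ofAdd (∑ j ∈ I, w j)))).toAdd := by
    refine Finset.sum_subset Finset.subset_union_right fun z hz hz₀ => ?_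
    have hzη : z ≠ genericPoint Z := fun h => hηS (h ▸ hz)
    have h1 : (vb z (χ z (Multiplicative.ofAdd (∑ j ∈ I, w j)))).toAdd = 0 := by
      rw [ofAdd_sum, map_prod, map_prod, toAdd_prod]
      exact Finset.sum_eq_zero fun j _ => hunit z hzη hz₀ j
    rw [h1, mul_zero]
  have hneg : -(Curv2.deg k Z E n : ℝ) = ∑ z ∈ T ∪ S₀, ((Z ↘ Spec (CommRingCat.of k)).residueDegree z : ℝ) *
      (CycAlg.ordFrac (Z.presheaf.stalk z) Z.functionField
        ((β.reindex e).toMatrix fun j => spe E z (m z j)).det : ℝ) := by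
    rw [hdeg]
    push_cast
    ring
  rw [hneg, hd]
  refine ⟨Finset.sum_le_sum fun z hz => ?_, fun h0 => Finset.sum_congr rfl fun z hz => ?_⟩
  · have hzη : z ≠ genericPoint Z := fun h => hηS (h ▸ hz)
    exact mul_le_mul_of_nonneg_left (hpt z hzη).1 (Nat.cast_nonneg _)
  · have hzη : z ≠ genericPoint Z := fun h => hηS (h ▸ hz)
    rw [(hpt z hzη).2 fun i hi j => h0 z i (fun h => hi ⟨e ⟨i, h⟩, by simp [f]⟩) _ (e.symm j).2]

end K204.Num
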