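import Groth.Agent.CanPar.K795.OmegaGrp
import Groth.Agent.CanPar.K795.CurveBound
import Groth.Agent.CanPar.K795.FibreRank
import Groth.Agent.PerfA.CohSerre

/-!
# Invariant differentials: isomorphisms, ranks, degrees

* `omegaCongr`: isomorphic groups have isomorphic modules of invariant differentials;
* `exists_rank`: a finite locally free module on an irreducible scheme has a rank;
* `exists_bound`: degrees of the modules `ω_P`, `P ⟶ G` a monomorphism of groups, over a proper curve are bounded.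
-/

set_option autoImplicit false
universe u

open CategoryTheory CategoryTheory.Limits MonoidalCategory CartesianMonoidalCategory MonObj GrpObj
open AlgebraicGeometry

namespace K204.OmIso

open Groth.Agent.VarietyA.DegRank K795.OmegaGrp

variable {S : Scheme.{u}}

/-- isomorphic groups have isomorphic modules of invariant differentials -/
noncomputable def omegaCongr {P Q : Over S} [GrpObj P] [GrpObj Q] (e : P ≅ Q) [IsMonHom e.hom] [QuasiSeparated Q.hom] :
    LieS.omega P ≅ LieS.omega Q :=
  haveI : IsIso e.hom.left := (Over.forget S).map_isIso e.hom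
  (Scheme.Modules.pullback (un P)).mapIso
    (Groth.Agent.Vancyc.H878.RelOmega.omegaBC
      (IsPullback.of_horiz_isIso ⟨by rw [Over.w, Category.comp_id]⟩ :
        IsPullback e.hom.left P.hom Q.hom (𝟙 S))).symm ≪≫
  (Scheme.Modules.pullbackComp (un P) e.hom.left).app _ ≪≫
  (Scheme.Modules.pullbackCongr (un_comp e.hom)).app _

theorem exists_rank [IrreducibleSpace S] {E : S.Modules} (hE : FlatMod.IsFinLocFree E) :
    ∃ n : ℕ, FlatMod.IsFinLocFreeOfRank n E := by
  refine ⟨Module.finrank (S.presheaf.stalk (genericPoint S)) (E.presheaf.stalk (genericPoint S)), fun x => ?_⟩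
  obtain ⟨U, n, hx, ⟨a⟩⟩ := hE x
  have hη : genericPoint S ∈ U := ((genericPoint_spec S).mem_open_set_iff U.isOpen).mpr ⟨x, trivial, hx⟩
  rw [K795.FibreRank.finrank_stalk a (genericPoint S) hη]
  exact ⟨U, hx, ⟨a⟩⟩

open Groth.Agent.Krr.H450.ConormalIso Groth.Agent.PerfC.PullRestrict in
theorem ofRank_pullback {Y : Scheme.{u}} (g : Y ⟶ S) {n : ℕ} {E : S.Modules} (hE : FlatMod.IsFinLocFreeOfRank n E) :
    FlatMod.IsFinLocFreeOfRank n ((Scheme.Modules.pullback g).obj E) := by
  intro y
  obtain ⟨U, hU, ⟨a⟩⟩ := hE (g y)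
  exact ⟨g ⁻¹ᵁ U, hU, ⟨(pullbackSquare (morphismRestrict_ι g U).symm).symm.app E ≪≫
      (Scheme.Modules.pullback (g ∣_ U)).mapIso a ≪≫ pullbackFreeMod (g ∣_ U) n⟩⟩

/-- the degrees of subgroups are bounded -/
theorem exists_bound (k : Type u) [Field k] [S.Over (Spec (CommRingCat.of k))] [IsIntegral S]
    [IsProper (S ↘ (Spec (CommRingCat.of k)))] (hd : topologicalKrullDim S ≤ 1)
    (G : Over S) [GrpObj G] [Smooth G.hom] [QuasiSeparated G.hom] :
    ∃ B : ℤ, ∀ (P : Over S) [GrpObj P] (i : P ⟶ G) [IsMonHom i] [Mono i.left] [QuasiSeparated P.hom],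
      -K795.CurveBound.dg k (LieS.omega P) ≤ B := by
  have hN : IsNoetherian S := Groth.Agent.CurvesB.CurveRR.isNoetherian_of_proper k S
  have hcoh : Coh.IsCoh (LieS.omega G) :=
    Groth.Agent.PerfA.CohSerre.isCoh_of_isFinLocFree (K795.OmegaGrp.isFinLocFree_omega G)
  refine ⟨(Module.finrank k (Coh.HH S (LieS.omega G) 1) : ℤ) +
    Groth.Agent.VarietyA.DegRank.rk (LieS.omega G) * |Curv2.euler k S (Coh.structureModule S)|, ?_⟩
  intro P _ i _ _ _
  obtain ⟨φ, hφ⟩ := K795.OmegaGrp.exists_epi i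
  exact K795.CurveBound.neg_dg_le k hd hcoh φ

end K204.OmIso
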