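import Groth.Agent.CanPar.K795.ParExt
import Groth.Agent.CanPar.K204.OmIso
import Groth.Agent.CanPar.K204.DegPull
import Groth.Agent.CanPar.K204.FlatLift

/-!
# Parabolic subgroups as morphisms to the scheme of parabolic subgroups: containment and degree

`ParData G`: the scheme `M` of parabolic subgroups of a reductive group `G` over `X`, with its universal family.
For morphisms `φ ψ : T ⟶ M`:
* `Le φ ψ`: containment of the parabolic subgroups; `Le.comp`, `Le.antisymm`, `Le.of_comp` (faithfully flat descent);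
* `dg k φ`: the degree of `ω` of the parabolic subgroup classified by `φ` (`T` a curve over `k`); `deg_eq`, `dg_comp`,
  `exists_bound`.
-/

set_option autoImplicit false
universe u

open CategoryTheory CategoryTheory.Limits AlgebraicGeometry MonoidalCategory CartesianMonoidalCategory
  MonObj GrpObj

namespace K204.ParSec

open Groth.Agent Groth.Agent.Sga3B Groth.Agent.Sga3B.MT Groth.Agent.RedSub.H647.SubPt
  Groth.Agent.RedSub.H660.Classes K795.ParExt

/-- The scheme of parabolic subgroups of a reductive group. -/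
structure ParData {X : Scheme.{u}} (G : Over X) [GrpObj G] where
  red : Red.IsReductive G
  M : Over X
  H : Over M.left
  [grp : GrpObj H]
  h : H ⟶ Red.bc M.hom G
  rep : RedSub.RepresentsPar G M H h
  par : Red.IsParabolic h
  proper : IsProper M.hom

attribute [instance] ParData.grp ParData.proper

variable {X : Scheme.{u}} {G : Over X} [GrpObj G]

theorem nonempty_parData (hG : Red.IsReductive G) : Nonempty (ParData G) := by
  obtain ⟨M, H, _, h, hM, _, hp, _⟩ := S3978.result G hG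
  exact ⟨{ red := hG, M := M, H := H, h := h, rep := hM,
           par := RedSub.H650.ParClosed.isParabolic (RedBcAny636.isReductive_bc M.hom hG) h hM.1, proper := hp }⟩

namespace ParData

variable (D : ParData G)

theorem isParabolic_bcSub {T : Scheme.{u}} (φ : T ⟶ D.M.left) : Red.IsParabolic (bcSub φ D.h) := by
  rw [good_isParabolic.bcSub_iff]
  exact RedSub.H648.BorBc.isParabolic_bc φ (RedBcAny636.isReductive_bc D.M.hom D.red) D.par

/-- containment of the parabolic subgroups classified by two morphisms -/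
def Le {T : Scheme.{u}} (φ ψ : T ⟶ D.M.left) : Prop :=
  ∀ (Z : Scheme.{u}) (y : Z ⟶ T) (g : Z ⟶ G.left), Pt D.h (y ≫ φ) g → Pt D.h (y ≫ ψ) g

variable {D} {T T' : Scheme.{u}}

theorem Le.refl (φ : T ⟶ D.M.left) : D.Le φ φ := fun _ _ _ h => h

theorem Le.trans {φ ψ χ : T ⟶ D.M.left} (h₁ : D.Le φ ψ) (h₂ : D.Le ψ χ) : D.Le φ χ :=
  fun Z y g h => h₂ Z y g (h₁ Z y g h)

theorem Le.comp {φ ψ : T ⟶ D.M.left} (h : D.Le φ ψ) (a : T' ⟶ T) : D.Le (a ≫ φ) (a ≫ ψ) := by
  intro Z y g h1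
  have := h Z (y ≫ a) g (by rwa [Category.assoc])
  rwa [Category.assoc] at this

/-- `φ` classifies the subgroup `i` -/
def Of (D : ParData G) {P : Over T} {f : T ⟶ X} (i : P ⟶ Red.bc f G) (φ : T ⟶ D.M.left) : Prop :=
  ∀ (Z : Scheme.{u}) (y : Z ⟶ T) (g : Z ⟶ G.left), Pt i y g ↔ Pt D.h (y ≫ φ) g

theorem of_bcSub (φ : T ⟶ D.M.left) : D.Of (bcSub φ D.h) φ := fun _ y g => pt_bcSub φ D.h y g

theorem Le.antisymm {φ ψ : T ⟶ D.M.left} (e : φ ≫ D.M.hom = ψ ≫ D.M.hom) (h₁ : D.Le φ ψ) (h₂ : D.Le ψ φ) :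
    φ = ψ := by
  obtain ⟨χ, -, hχ⟩ := existsUnique_hom_of_par D.rep (φ ≫ D.M.hom) (bcSub φ D.h) (D.isParabolic_bcSub φ)
  have e1 := hχ φ ⟨rfl, of_bcSub φ⟩
  have e2 := hχ ψ ⟨e.symm, fun Z y g => by
    rw [pt_bcSub]
    exact ⟨h₁ Z y g, h₂ Z y g⟩⟩
  rw [e1, e2]

/-- containment descends along faithfully flat quasi-compact morphisms -/
theorem Le.of_comp {φ ψ : T ⟶ D.M.left} (e : φ ≫ D.M.hom = ψ ≫ D.M.hom) (a : T' ⟶ T) [Flat a] [Surjective a]
    [QuasiCompact a] (h : D.Le (a ≫ φ) (a ≫ ψ)) : D.Le φ ψ := by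
  intro Z y g hp
  have w : g ≫ G.hom = y ≫ (ψ ≫ D.M.hom) := by rw [← e, ← Category.assoc, hp.w]
  rw [← pt_bcSub, pt_iff_lift _ _ _ w]
  have hm : IsClosedImmersion (bcSub ψ D.h).left := (D.isParabolic_bcSub ψ).2.1
  refine K204.FlatLift.exists_lift_of_flat (bcSub ψ D.h).left (pullback.lift g y w) (pullback.fst y a) ?_
  have h1 : Pt D.h ((pullback.snd y a) ≫ a ≫ φ) (pullback.fst y a ≫ g) := by
    have := hp.comp (pullback.fst y a)
    rwa [← Category.assoc, pullback.condition, Category.assoc] at this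
  have h2 := h _ _ _ h1
  rw [← Category.assoc, ← pullback.condition, Category.assoc, ← Category.assoc, ← pt_bcSub,
    pt_iff_lift _ _ _ (by rw [Category.assoc, w, Category.assoc])] at h2
  obtain ⟨p, hp⟩ := h2
  refine ⟨p, hp.trans ?_⟩
  apply pullback.hom_ext
  · rw [pullback.lift_fst, Category.assoc, pullback.lift_fst]
  · rw [pullback.lift_snd, Category.assoc, pullback.lift_snd]

section Deg

variable (k : Type u) [Field k] [T.Over (Spec (CommRingCat.of k))] [T'.Over (Spec (CommRingCat.of k))]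

/-- degree of `ω` of the parabolic subgroup classified by `φ` -/
noncomputable def dg [IrreducibleSpace T] (φ : T ⟶ D.M.left) : ℤ :=
  K795.CurveBound.dg k ((Scheme.Modules.pullback φ).obj (LieS.omega D.H))

theorem quasiSeparated_bcSub (φ : T ⟶ D.M.left) : QuasiSeparated ((Over.pullback φ).obj D.H).hom := by
  have h1 := D.isParabolic_bcSub φ
  have h2 := h1.2.1
  have h3 := (RedBcAny636.isReductive_bc (φ ≫ D.M.hom) D.red).1
  rw [← Over.w (bcSub φ D.h)]
  infer_instance

theorem quasiSeparated_H (D : ParData G) : QuasiSeparated D.H.hom := by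
  have h2 := D.par.2.1
  have h3 := (RedBcAny636.isReductive_bc D.M.hom D.red).1
  rw [← Over.w D.h]
  infer_instance

theorem isFinLocFree (φ : T ⟶ D.M.left) :
    FlatMod.IsFinLocFree ((Scheme.Modules.pullback φ).obj (LieS.omega D.H)) := by
  have := D.quasiSeparated_H
  have := D.par.2.2.1
  exact Groth.Agent.PerfC.PullRestrict.isFinLocFree_pullback _ (K795.OmegaGrp.isFinLocFree_omega D.H)

/-- the module of invariant differentials of the parabolic subgroup classified by `φ` -/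
theorem nonempty_omega_iso {P : Over T} [GrpObj P] {f : T ⟶ X} {i : P ⟶ Red.bc f G} (hi : Red.IsParabolic i)
    {φ : T ⟶ D.M.left} (hφ : φ ≫ D.M.hom = f) (h : D.Of i φ) :
    Nonempty (LieS.omega P ≅ (Scheme.Modules.pullback φ).obj (LieS.omega D.H)) := by
  subst hφ
  have h1 := D.isParabolic_bcSub φ
  have m1 : Mono i := by have := hi.2.1; exact Over.mono_of_mono_left _
  have m2 : Mono (bcSub φ D.h) := by have := h1.2.1; exact Over.mono_of_mono_left _
  have := hi.1
  have := h1.1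
  obtain ⟨e, -⟩ := exists_grpIso_of_pt i (bcSub φ D.h) fun Z y g => (h Z y g).trans (of_bcSub φ Z y g).symm
  have := D.quasiSeparated_H
  have := D.quasiSeparated_bcSub φ
  have : IsMonHom (RedIso.und e).hom := inferInstanceAs (IsMonHom e.hom.hom.hom)
  exact ⟨OmIso.omegaCongr (RedIso.und e) ≪≫ K795.OmegaGrp.omegaBC φ D.H⟩

theorem deg_eq [IsIntegral T] {P : Over T} [GrpObj P] {f : T ⟶ X} {i : P ⟶ Red.bc f G} (hi : Red.IsParabolic i)
    {φ : T ⟶ D.M.left} (hφ : φ ≫ D.M.hom = f) (h : D.Of i φ) {n : ℕ}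
    (hn : FlatMod.IsFinLocFreeOfRank n (LieS.omega P)) : Curv2.deg k T (LieS.omega P) n = D.dg k φ := by
  obtain ⟨e⟩ := nonempty_omega_iso hi hφ h
  rw [K795.CurveBound.deg_eq_dg k hn, dg, K795.CurveBound.dg_iso k e]

theorem exists_omega_rank [IrreducibleSpace T] {P : Over T} [GrpObj P] {f : T ⟶ X} {i : P ⟶ Red.bc f G}
    (hG : Red.IsReductive G) (hi : Red.IsParabolic i) :
    ∃ n : ℕ, FlatMod.IsFinLocFreeOfRank n (LieS.omega P) := by
  have h2 := hi.2.1
  have h3 := (RedBcAny636.isReductive_bc f hG).1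
  have h4 := hi.2.2.1
  have : QuasiSeparated P.hom := by
    rw [← Over.w i]
    infer_instance
  exact OmIso.exists_rank (K795.OmegaGrp.isFinLocFree_omega P)

theorem exists_dg_comp [IsIntegral T] [IsIntegral T'] [IsProper (T ↘ Spec (CommRingCat.of k))]
    (hdim : topologicalKrullDim T ≤ 1) (a : T' ⟶ T) [IsFinite a] [Surjective a]
    (ha : a ≫ (T ↘ Spec (CommRingCat.of k)) = T' ↘ Spec (CommRingCat.of k)) :
    ∃ c : ℕ, 0 < c ∧ ∀ φ : T ⟶ D.M.left, D.dg k (a ≫ φ) = c * D.dg k φ := by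
  obtain ⟨c, hc, h⟩ := DegPull.exists_deg_pullback k hdim a ha
  refine ⟨c, hc, fun φ => ?_⟩
  obtain ⟨n, hn⟩ := OmIso.exists_rank (isFinLocFree (D := D) φ)
  have h1 := h n _ hn
  rw [K795.CurveBound.deg_eq_dg k hn, K795.CurveBound.deg_eq_dg k (OmIso.ofRank_pullback a hn)] at h1
  exact (K795.CurveBound.dg_iso k ((Scheme.Modules.pullbackComp a φ).app _)).symm.trans h1

theorem dg_iso_comp [IsIntegral T] [IsProper (T ↘ Spec (CommRingCat.of k))]
    (hdim : topologicalKrullDim T ≤ 1) (a : T ≅ T)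
    (ha : a.hom ≫ (T ↘ Spec (CommRingCat.of k)) = T ↘ Spec (CommRingCat.of k)) (φ : T ⟶ D.M.left) :
    D.dg k (a.hom ≫ φ) = D.dg k φ := by
  obtain ⟨c, hc, h⟩ := exists_dg_comp (D := D) k hdim a.hom ha
  obtain ⟨c', hc', h'⟩ := exists_dg_comp (D := D) k hdim a.inv (by rw [Iso.inv_comp_eq, ha])
  have h1 := h' (a.hom ≫ φ)
  rw [Iso.inv_hom_id_assoc, h φ] at h1
  by_cases h0 : D.dg k φ = 0
  · rw [h φ, h0, mul_zero]
  · have h2 : (c' : ℤ) * c = 1 := by
      have : ((c' : ℤ) * c) * D.dg k φ = 1 * D.dg k φ := by rw [_root_.one_mul, _root_.mul_assoc, ← h1]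
      exact mul_right_cancel₀ h0 this
    have h3 : c' * c = 1 := by exact_mod_cast h2
    rw [h φ, (Nat.eq_one_of_mul_eq_one_left h3 : c = 1), Nat.cast_one, _root_.one_mul]

theorem exists_bound [IsIntegral T] [IsProper (T ↘ Spec (CommRingCat.of k))]
    (hdim : topologicalKrullDim T ≤ 1) (q : T ⟶ X) :
    ∃ B : ℤ, ∀ φ : T ⟶ D.M.left, φ ≫ D.M.hom = q → -D.dg k φ ≤ B := by
  have h1 := (RedBcAny636.isReductive_bc q D.red).1
  have h2 := (RedBcAny636.isReductive_bc q D.red).2.1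
  obtain ⟨B, hB⟩ := OmIso.exists_bound k hdim (Red.bc q G)
  refine ⟨B, fun φ hφ => ?_⟩
  subst hφ
  have h3 := D.isParabolic_bcSub φ
  have := h3.1
  have := h3.2.1
  have := D.quasiSeparated_bcSub φ
  obtain ⟨e⟩ := nonempty_omega_iso h3 rfl (of_bcSub φ)
  have h4 := hB _ (bcSub φ D.h)
  rwa [K795.CurveBound.dg_iso k e] at h4

end Deg

end ParData

end K204.ParSec
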