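import Groth.Agent.CanPar.K204.ParSec
import Groth.Agent.CanPar.K795.Iface
import Groth.Agent.S8495
import Groth.Agent.Sga3.H780.SepPt
import Groth.Agent.Sga3B.TorusEtLoc920
import Groth.Agent.Sga3B.Parab.Inter
import Groth.Agent.Sga3B.MaxTorBc636
import Groth.Agent.Sga3B.IsomHa505

/-!
# Common maximal tori of parabolic subgroups over fields; splitting; the core for the scheme of parabolic subgroups

* `exists_torus`: two parabolic subgroups over a field contain a common maximal torus;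
* `exists_galois_split`: tori over fields are split by a finite Galois extension;
* `core`: `CoreSplit` in terms of morphisms to the scheme of parabolic subgroups.
-/

set_option autoImplicit false
universe u

open CategoryTheory CategoryTheory.Limits AlgebraicGeometry MonoidalCategory CartesianMonoidalCategory
  MonObj GrpObj

namespace K204.Tor

open Groth.Agent Groth.Agent.Sga3B Groth.Agent.Sga3B.MT Groth.Agent.RedSub.H647.SubPt
  Groth.Agent.RedSub.H647.SubF.SubClass Groth.Agent.RedSub.H660.Classes K795.ParExt K204.ParSec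
  Groth.Agent.RedSub.H660.Restrict

variable {X : Scheme.{u}} {G : Over X} [GrpObj G] (D : ParData G)

/-- the subgroup `i` is contained in the parabolic subgroup classified by `θ` -/
def TLe {B : Scheme.{u}} {t : B ⟶ X} {T : Over B} (i : T ⟶ Red.bc t G) (θ : B ⟶ D.M.left) : Prop :=
  ∀ (Z : Scheme.{u}) (y : Z ⟶ B) (g : Z ⟶ G.left), Pt i y g → Pt D.h (y ≫ θ) g

variable {D}

theorem TLe.le {B : Scheme.{u}} {t : B ⟶ X} {T : Over B} {i : T ⟶ Red.bc t G} {θ θ' : B ⟶ D.M.left}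
    (h : TLe D i θ) (h' : D.Le θ θ') : TLe D i θ' := fun Z y g hp => h' Z y g (h Z y g hp)

/-- Two parabolic subgroups over a field contain a common maximal torus. -/
theorem exists_torus {K : Type u} [Field K] {t : Spec (CommRingCat.of K) ⟶ X}
    (θ₁ θ₂ : Spec (CommRingCat.of K) ⟶ D.M.left) (h₁ : θ₁ ≫ D.M.hom = t) (h₂ : θ₂ ≫ D.M.hom = t) :
    ∃ (T : Over (Spec (CommRingCat.of K))) (_ : GrpObj T) (i : T ⟶ Red.bc t G), Red.IsMaximalTorus i ∧
      TLe D i θ₁ ∧ TLe D i θ₂ := by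
  obtain ⟨P₁, _, p₁, hp₁, e₁⟩ := exists_par_of_hom D.red D.par t θ₁ h₁
  obtain ⟨P₂, _, p₂, hp₂, e₂⟩ := exists_par_of_hom D.red D.par t θ₂ h₂
  have i1 := hp₁.1
  have i2 := hp₂.1
  have m1 : Mono p₁ := by have := hp₁.2.1; exact Over.mono_of_mono_left _
  have m2 : Mono p₂ := by have := hp₂.2.1; exact Over.mono_of_mono_left _
  obtain ⟨I, _, a, b, ha, hb, hI⟩ := Parab.Inter.exists_inter p₁ p₂
  obtain ⟨-, T, _, τ, hτ, hmax⟩ := S8495.result K (RedBcAny636.isReductive_bc t D.red) p₁ p₂ hp₁ hp₂ a b hI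
  refine ⟨T, inferInstance, τ ≫ a ≫ p₁, hmax, fun Z y g h => (e₁ Z y g).1 ?_, fun Z y g h => (e₂ Z y g).1 ?_⟩
  · exact pt_of_fac (τ ≫ a) (Category.assoc _ _ _) h
  · exact pt_of_fac (τ ≫ b) (by rw [Category.assoc, ← hI.w]) h

/-- Tori over fields are split by finite Galois extensions. -/
theorem exists_galois_split {K : Type u} [Field K] {T : Over (Spec (CommRingCat.of K))} [GrpObj T]
    (hT : Red.IsTorus T) : ∃ (L : Type u) (_ : Field L) (_ : Algebra K L) (_ : FiniteDimensional K L)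
      (_ : IsGalois K L) (r : ℕ),
      Red.IsSplitTorusWith (Fin r → ℤ) (Red.bc (Spec.map (CommRingCat.ofHom (algebraMap K L))) T) := by
  obtain ⟨B, _, v, r, hv, ⟨b, -⟩, hsp⟩ := TorusEtLoc920.exists_etale_split T hT (IsLocalRing.closedPoint K)
  have : Nonempty (Spec (CommRingCat.of B)) := ⟨b⟩
  obtain ⟨L, _, _, q, h1, h2, hq⟩ := Sga3.H780.SepPt.exists_point K v
  exact ⟨L, inferInstance, inferInstance, h1, h2, r,
    TorusBc.isSplitTorusWith_of_iso ((BcIso.bcCompIso q v T).symm ≪≫ BcIso.bcCongrIso hq T)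
      (TorusAlgClosed.isSplitTorusWith_bc q hsp)⟩

theorem isMaximalTorus_bcSub (hG : Red.IsReductive G) {B B' : Scheme.{u}} (f : B' ⟶ B) {t : B ⟶ X} {T : Over B}
    [GrpObj T] {i : T ⟶ Red.bc t G} (hi : Red.IsMaximalTorus i) : Red.IsMaximalTorus (bcSub f i) := by
  have h1 : Red.IsMaximalTorus ((Over.pullback f).map i) :=
    MaxTorBc636.isMaximalTorus_bc f (RedBcAny636.isReductive_bc t hG) hi
  have h2 := IsomHa505.isMaximalTorus_comp_iso (BcIso.bcCompIso f t G).symm h1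
  rw [Groth.Agent.RedSub.H647.SubF.SubClass.und_bcCompIso_symm t f] at h2
  exact h2

open CanPar.K795.Iface

section Gen

variable {Z : Scheme.{u}} [IrreducibleSpace Z] {q : Z ⟶ X} {P : Over Z} (p : P ⟶ Red.bc q G)
  {T : Over (Spec (Z.presheaf.stalk (genericPoint Z)))} (i : T ⟶ Red.bc (gen Z ≫ q) G)

theorem map_comp_iso : (Over.pullback (gen Z)).map p ≫ (RedIso.und (BcIso.bcCompIso (gen Z) q G).symm).hom =
    bcSub (gen Z) p := by
  rw [Groth.Agent.RedSub.H647.SubF.SubClass.und_bcCompIso_symm q (gen Z)]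
  rfl

theorem genLe_iff : GenLe (upw q i) p ↔
    ∀ (Y : Scheme.{u}) (y : Y ⟶ _) (g : Y ⟶ G.left), Pt i y g → Pt p (y ≫ gen Z) g := by
  constructor
  · rintro ⟨t, ht⟩ Y y g h
    rw [← pt_bcSub]
    refine pt_of_fac t ?_ h
    rw [← map_comp_iso, ← Category.assoc, ht]
    exact down_upw q i
  · intro h
    obtain ⟨t, ht⟩ := exists_fac_of_pt i (bcSub (gen Z) p) fun Y y g hp => by
      rw [pt_bcSub]
      exact h Y y g hp
    refine ⟨t, ?_⟩
    rw [upw, ← ht, ← map_comp_iso, Category.assoc, Category.assoc, BcNat.und_symm, Iso.inv_hom_id,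
      Category.comp_id]

end Gen

/-- **`CoreSplit` in terms of the scheme of parabolic subgroups.** -/
theorem core (hC : CoreSplit.{u}) (k : Type u) [Field k] (Z : Scheme.{u}) [Z.Over (Spec (CommRingCat.of k))]
    [IsIntegral Z] [IsProper (Z ↘ Spec (CommRingCat.of k))] (hdim : topologicalKrullDim Z = 1)
    (hval : ∀ z : Z, ValuationRing (Z.presheaf.stalk z)) (q : Z ⟶ X)
    {t : Spec (Z.presheaf.stalk (genericPoint Z)) ⟶ X} (ht : gen Z ≫ q = t)
    (T : Over (Spec (Z.presheaf.stalk (genericPoint Z)))) [GrpObj T] (i : T ⟶ Red.bc t G)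
    (hi : Red.IsMaximalTorus i)
    (M : Type) [AddCommGroup M] [Module.Finite ℤ M] [Module.Free ℤ M] (hM : Red.IsSplitTorusWith M T) :
    ∃ φ : Z ⟶ D.M.left, φ ≫ D.M.hom = q ∧ TLe D i (gen Z ≫ φ) ∧
      ∀ ψ : Z ⟶ D.M.left, ψ ≫ D.M.hom = q → TLe D i (gen Z ≫ ψ) →
        -D.dg k ψ ≤ -D.dg k φ ∧ (D.dg k ψ = D.dg k φ → D.Le ψ φ) := by
  subst ht
  have hmax : Red.IsMaximalTorus (upw q i) :=
    IsomHa505.isMaximalTorus_comp_iso (BcIso.bcCompIso (gen Z) q G) hi
  obtain ⟨P, _, p, n, hp, hn, hle, hmx⟩ := hC k Z hdim hval (Red.bc q G) (RedBcAny636.isReductive_bc q D.red) T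
    (upw q i) hmax M hM
  obtain ⟨φ, ⟨hφ1, hφ2⟩, -⟩ := existsUnique_hom_of_par D.rep q p hp
  rw [genLe_iff] at hle
  refine ⟨φ, hφ1, fun Y y g h => ?_, fun ψ hψ1 hψ2 => ?_⟩
  · rw [← Category.assoc, ← hφ2]
    exact hle Y y g h
  · obtain ⟨Q, _, r, hr, e⟩ := exists_par_of_hom D.red D.par q ψ hψ1
    obtain ⟨m, hm⟩ := ParData.exists_omega_rank D.red hr
    have h := hmx Q r hr ((genLe_iff r i).2 fun Y y g hy => by
      rw [e, Category.assoc]
      exact hψ2 Y y g hy) m hm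
    rw [ParData.deg_eq k hr hψ1 e hm, ParData.deg_eq k hp hφ1 hφ2 hn] at h
    refine ⟨h.1, fun he Y y g hy => ?_⟩
    obtain ⟨f, hf⟩ := h.2 he
    rw [← hφ2]
    exact pt_of_fac f hf ((e Y y g).2 hy)

/-- **`CoreSplitZero`** for the pull-back of a group. -/
theorem core0 (hC : CoreSplitZero.{u}) (k : Type u) [Field k] (Z : Scheme.{u}) [Z.Over (Spec (CommRingCat.of k))]
    [IsIntegral Z] [IsProper (Z ↘ Spec (CommRingCat.of k))] (hdim : topologicalKrullDim Z = 1)
    (hval : ∀ z : Z, ValuationRing (Z.presheaf.stalk z)) (hG : Red.IsReductive G) (q : Z ⟶ X)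
    {t : Spec (Z.presheaf.stalk (genericPoint Z)) ⟶ X} (ht : gen Z ≫ q = t)
    (T : Over (Spec (Z.presheaf.stalk (genericPoint Z)))) [GrpObj T] (i : T ⟶ Red.bc t G)
    (hi : Red.IsMaximalTorus i)
    (M : Type) [AddCommGroup M] [Module.Finite ℤ M] [Module.Free ℤ M] (hM : Red.IsSplitTorusWith M T)
    (n : ℕ) (hn : FlatMod.IsFinLocFreeOfRank n (LieS.omega (Red.bc q G))) :
    Curv2.deg k Z (LieS.omega (Red.bc q G)) n = 0 := by
  subst ht
  have hmax : Red.IsMaximalTorus (upw q i) :=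
    IsomHa505.isMaximalTorus_comp_iso (BcIso.bcCompIso (gen Z) q G) hi
  exact hC k Z hdim hval (Red.bc q G) (RedBcAny636.isReductive_bc q hG) T (upw q i) hmax M hM n hn

end K204.Tor
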